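import Mathlib
import Cfsg.Agent.SL2Tor.PSL

/-!
Centralisers of involutions and of odd elements in `PSL₂(F)`, `F` of characteristic not two.
-/

set_option autoImplicit false

namespace Cfsg.Agent.PSLEight2

open Matrix

/-- What is needed from `PSL₂(q)`, as a property of an abstract group. -/
structure TwoByTwo (L : Type*) [Group L] : Prop where
  abelian : ∀ x g h : L, Odd (orderOf x) → x ≠ 1 → Commute g x → Commute h x → Commute g h
  klein : ∀ x c d : L, Odd (orderOf x) → orderOf c = 2 → orderOf d = 2 → c ≠ d → Commute c d →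
    Commute x c → Commute x d → x = 1
  torus : ∀ x c v u : L, Odd (orderOf x) → x ≠ 1 → orderOf c = 2 → Commute x c →
    orderOf v = 2 → orderOf u = 2 → u ≠ v → Commute u v → ∃ r : L, Commute r v ∧ ¬ Commute r u

theorem TwoByTwo.of_mulEquiv {L L' : Type*} [Group L] [Group L'] (h : TwoByTwo L) (e : L ≃* L') :
    TwoByTwo L' := by
  have ho : ∀ x : L', orderOf (e.symm x) = orderOf x := fun x => MulEquiv.orderOf_eq e.symm x
  have hc : ∀ x y : L', Commute x y → Commute (e.symm x) (e.symm y) := fun x y hxy => hxy.map e.symm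
  have hb : ∀ x y : L, Commute x y → Commute (e x) (e y) := fun x y hxy => hxy.map e
  refine ⟨fun x g k h1 h2 h3 h4 => ?_, fun x c d h1 h2 h3 h4 h5 h6 h7 => ?_,
    fun x c v u h1 h2 h3 h4 h5 h6 h7 h8 => ?_⟩
  · simpa using hb _ _ (h.abelian (e.symm x) (e.symm g) (e.symm k) (by rwa [ho])
      (by simpa using h2) (hc _ _ h3) (hc _ _ h4))
  · simpa using h.klein (e.symm x) (e.symm c) (e.symm d) (by rwa [ho]) (by rwa [ho]) (by rwa [ho])
      (fun he => h4 (e.symm.injective he)) (hc _ _ h5) (hc _ _ h6) (hc _ _ h7)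
  · obtain ⟨r, hr1, hr2⟩ := h.torus (e.symm x) (e.symm c) (e.symm v) (e.symm u) (by rwa [ho])
      (by simpa using h2) (by rwa [ho]) (hc _ _ h4) (by rwa [ho]) (by rwa [ho])
      (fun he => h7 (e.symm.injective he)) (hc _ _ h8)
    refine ⟨e r, by simpa using hb _ _ hr1, fun he => hr2 ?_⟩
    simpa using hc _ _ he

variable {F : Type*} [Field F]

local notation "SL₂" => Matrix.SpecialLinearGroup (Fin 2) F
local notation "PSL₂" => Matrix.ProjectiveSpecialLinearGroup (Fin 2) F

theorem isScalar_cases {M : Matrix (Fin 2) (Fin 2) F} (hM : SL2Tor.IsScalar M) (hd : M.det = 1) :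
    M = 1 ∨ M = -1 := by
  obtain ⟨h01, h10, h00⟩ := hM
  rw [Matrix.det_fin_two, h01, h10, h00, mul_zero, sub_zero] at hd
  rcases mul_self_eq_one_iff.1 hd with h | h
  · exact Or.inl (by ext i j; fin_cases i <;> fin_cases j <;> simp [h01, h10, h00, h])
  · exact Or.inr (by ext i j; fin_cases i <;> fin_cases j <;> simp [h01, h10, h00, h])

theorem mk_eq_one {A : SL₂} (h : (QuotientGroup.mk A : PSL₂) = 1) :
    (A : Matrix (Fin 2) (Fin 2) F) = 1 ∨ (A : Matrix (Fin 2) (Fin 2) F) = -1 :=
  isScalar_cases ((SL2Tor.psl_mk_eq_one_iff A).1 h) A.2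

theorem mk_eq {A B : SL₂} (h : (QuotientGroup.mk A : PSL₂) = QuotientGroup.mk B) :
    (A : Matrix (Fin 2) (Fin 2) F) = B ∨ (A : Matrix (Fin 2) (Fin 2) F) = -B := by
  have h1 : (QuotientGroup.mk (A * B⁻¹) : PSL₂) = 1 := by
    rw [QuotientGroup.mk_mul, QuotientGroup.mk_inv, h, mul_inv_cancel]
  have e : ((A * B⁻¹ : SL₂) : Matrix (Fin 2) (Fin 2) F) * B = A := by
    rw [← Matrix.SpecialLinearGroup.coe_mul, mul_assoc, inv_mul_cancel, mul_one]
  rcases mk_eq_one h1 with h2 | h2 <;> rw [h2] at e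
  · exact Or.inl (by rw [← e, one_mul])
  · exact Or.inr (by rw [← e, neg_one_mul])

theorem mk_eq_one_of {A : SL₂} (h : (A : Matrix (Fin 2) (Fin 2) F) = 1 ∨
    (A : Matrix (Fin 2) (Fin 2) F) = -1) : (QuotientGroup.mk A : PSL₂) = 1 := by
  rw [SL2Tor.psl_mk_eq_one_iff]
  rcases h with h | h <;> rw [h] <;> simp [SL2Tor.IsScalar]

theorem mk_eq_of {A B : SL₂} (h : (A : Matrix (Fin 2) (Fin 2) F) = B ∨
    (A : Matrix (Fin 2) (Fin 2) F) = -B) : (QuotientGroup.mk A : PSL₂) = QuotientGroup.mk B := by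
  have : (QuotientGroup.mk (A * B⁻¹) : PSL₂) = 1 := by
    refine mk_eq_one_of ?_
    rw [Matrix.SpecialLinearGroup.coe_mul]
    have e : (B : Matrix (Fin 2) (Fin 2) F) * (B⁻¹ : SL₂) = 1 := by
      rw [← Matrix.SpecialLinearGroup.coe_mul, mul_inv_cancel, Matrix.SpecialLinearGroup.coe_one]
    rcases h with h | h <;> rw [h]
    · exact Or.inl e
    · exact Or.inr (by rw [neg_mul, e])
  rw [QuotientGroup.mk_mul, QuotientGroup.mk_inv] at this
  exact mul_inv_eq_one.1 this

theorem commute_iff_lift {A B : SL₂} : Commute (QuotientGroup.mk A : PSL₂) (QuotientGroup.mk B) ↔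
    ((A : Matrix (Fin 2) (Fin 2) F) * B = B * A ∨ (A : Matrix (Fin 2) (Fin 2) F) * B = -((B : Matrix (Fin 2) (Fin 2) F) * A)) := by
  constructor
  · intro h
    have := mk_eq (A := A * B) (B := B * A) (by rw [QuotientGroup.mk_mul, QuotientGroup.mk_mul]; exact h.eq)
    simpa using this
  · intro h
    have := mk_eq_of (A := A * B) (B := B * A) (by simpa using h)
    rw [QuotientGroup.mk_mul, QuotientGroup.mk_mul] at this
    exact this

/-- What commutes with a non-scalar matrix is a linear combination of it and the identity. -/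
theorem exists_comb {X g : Matrix (Fin 2) (Fin 2) F} (hX : ¬ SL2Tor.IsScalar X)
    (h : g * X = X * g) : ∃ a b : F, g = a • (1 : Matrix (Fin 2) (Fin 2) F) + b • X := by
  have e : ∀ i j, (g * X) i j = (X * g) i j := fun i j => by rw [h]
  have e00 := e 0 0; have e01 := e 0 1; have e10 := e 1 0
  simp only [Matrix.mul_apply, Fin.sum_univ_two] at e00 e01 e10
  by_cases h01 : X 0 1 = 0
  · by_cases h10 : X 1 0 = 0
    · have hne : X 0 0 - X 1 1 ≠ 0 := fun hd => hX ⟨h01, h10, sub_eq_zero.1 hd⟩
      refine ⟨g 0 0 - (g 0 0 - g 1 1) / (X 0 0 - X 1 1) * X 0 0, (g 0 0 - g 1 1) / (X 0 0 - X 1 1), ?_⟩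
      have g01 : g 0 1 = 0 := by
        refine (mul_eq_zero.1 (show (X 0 0 - X 1 1) * g 0 1 = 0 from ?_)).resolve_left hne
        rw [h01] at e01; linear_combination -e01
      have g10 : g 1 0 = 0 := by
        refine (mul_eq_zero.1 (show (X 0 0 - X 1 1) * g 1 0 = 0 from ?_)).resolve_left hne
        rw [h10] at e10; linear_combination e10
      ext i j
      fin_cases i <;> fin_cases j <;> simp [h01, h10, g01, g10] <;> field_simp <;> ring
    · refine ⟨g 0 0 - g 1 0 / X 1 0 * X 0 0, g 1 0 / X 1 0, ?_⟩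
      have g01 : g 0 1 = 0 := by
        rw [h01] at e00
        refine (mul_eq_zero.1 (show g 0 1 * X 1 0 = 0 from ?_)).resolve_right h10
        linear_combination e00
      ext i j
      fin_cases i <;> fin_cases j <;> simp [h01, g01] <;> field_simp
      linear_combination e10
  · refine ⟨g 0 0 - g 0 1 / X 0 1 * X 0 0, g 0 1 / X 0 1, ?_⟩
    ext i j
    fin_cases i <;> fin_cases j <;> simp <;> field_simp
    · linear_combination -e00
    · linear_combination -e01

theorem not_isScalar_of_ne_one {A : SL₂} (h : (QuotientGroup.mk A : PSL₂) ≠ 1) :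
    ¬ SL2Tor.IsScalar (A : Matrix (Fin 2) (Fin 2) F) :=
  fun hs => h ((SL2Tor.psl_mk_eq_one_iff A).2 hs)

theorem isScalar_smul (c : F) : SL2Tor.IsScalar (c • (1 : Matrix (Fin 2) (Fin 2) F)) :=
  SL2Tor.isScalar_smul_one c

/-- An involution lifts to a matrix of square `-1` and trace `0`. -/
theorem lift_involution (_h2 : (2 : F) ≠ 0) {c : PSL₂} (hc : orderOf c = 2) :
    ∃ A : SL₂, (QuotientGroup.mk A : PSL₂) = c ∧ (A : Matrix (Fin 2) (Fin 2) F) * A = -1 ∧
      (A : Matrix (Fin 2) (Fin 2) F).trace = 0 ∧ ¬ SL2Tor.IsScalar (A : Matrix (Fin 2) (Fin 2) F) := by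
  obtain ⟨A, rfl⟩ := QuotientGroup.mk_surjective c
  have hne : (QuotientGroup.mk A : PSL₂) ≠ 1 := fun h => by
    rw [h, orderOf_one] at hc; omega
  have hns := not_isScalar_of_ne_one hne
  have hsq : (QuotientGroup.mk (A * A) : PSL₂) = 1 := by
    rw [QuotientGroup.mk_mul, ← pow_two]
    have h' := pow_orderOf_eq_one (QuotientGroup.mk A : PSL₂)
    rw [hc] at h'
    exact h'
  have hch : (A : Matrix (Fin 2) (Fin 2) F) * A =
      (A : Matrix (Fin 2) (Fin 2) F).trace • (A : Matrix (Fin 2) (Fin 2) F) - 1 := by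
    rw [SL2Tor.two_sq, A.2, one_smul]
  have htr : (A : Matrix (Fin 2) (Fin 2) F).trace = 0 := by
    by_contra ht
    refine hns ?_
    obtain ⟨h01, h10, h00⟩ := (SL2Tor.psl_mk_eq_one_iff (A * A)).1 hsq
    rw [Matrix.SpecialLinearGroup.coe_mul, hch] at h01 h10 h00
    simp [ht] at h01 h10 h00
    exact ⟨h01, h10, h00⟩
  refine ⟨A, rfl, ?_, htr, hns⟩
  rw [hch, htr, zero_smul, zero_sub]

theorem det_comb {A : Matrix (Fin 2) (Fin 2) F} (htr : A.trace = 0) (hd : A.det = 1) (a b : F) :
    (a • (1 : Matrix (Fin 2) (Fin 2) F) + b • A).det = a ^ 2 + b ^ 2 := by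
  rw [Matrix.trace_fin_two] at htr
  rw [Matrix.det_fin_two] at hd
  simp [Matrix.det_fin_two]
  linear_combination (a * b) * htr + b ^ 2 * hd

theorem comb_unique {A : Matrix (Fin 2) (Fin 2) F} (hns : ¬ SL2Tor.IsScalar A) {a b c d : F}
    (h : a • (1 : Matrix (Fin 2) (Fin 2) F) + b • A = c • 1 + d • A) : a = c ∧ b = d := by
  have e : ∀ i j, (a • (1 : Matrix (Fin 2) (Fin 2) F) + b • A) i j = (c • 1 + d • A) i j :=
    fun i j => by rw [h]
  have e01 := e 0 1; have e10 := e 1 0; have e00 := e 0 0; have e11 := e 1 1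
  simp at e01 e10 e00 e11
  have hbd : b = d := by
    by_contra hne
    refine hns ⟨?_, ?_, ?_⟩
    · rcases e01 with h | h
      · exact absurd h hne
      · exact h
    · rcases e10 with h | h
      · exact absurd h hne
      · exact h
    · have : (b - d) * (A 0 0 - A 1 1) = 0 := by linear_combination e00 - e11
      exact sub_eq_zero.1 ((mul_eq_zero.1 this).resolve_left (sub_ne_zero.2 hne))
  subst hbd
  exact ⟨by linear_combination e00, rfl⟩

/-- An element of odd order commuting with an involution commutes with its lift. -/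
theorem odd_lift_commute (h2 : (2 : F) ≠ 0) {X A : SL₂}
    (hodd : Odd (orderOf (QuotientGroup.mk X : PSL₂)))
    (h : Commute (QuotientGroup.mk X : PSL₂) (QuotientGroup.mk A)) :
    (X : Matrix (Fin 2) (Fin 2) F) * A = A * X := by
  rcases commute_iff_lift.1 h with h1 | h1
  · exact h1
  exfalso
  have hpow : ∀ n : ℕ, (X : Matrix (Fin 2) (Fin 2) F) ^ n * A =
      (-1 : F) ^ n • ((A : Matrix (Fin 2) (Fin 2) F) * (X : Matrix (Fin 2) (Fin 2) F) ^ n) := by
    intro n
    induction n with
    | zero => simp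
    | succ n ih =>
      rw [pow_succ', mul_assoc, ih, Matrix.mul_smul, ← mul_assoc, h1, neg_mul, mul_assoc,
        smul_neg, pow_succ (-1 : F) n, mul_neg_one, neg_smul]
  have hn := hpow (orderOf (QuotientGroup.mk X : PSL₂))
  rw [hodd.neg_one_pow] at hn
  have hone := mk_eq_one (A := X ^ orderOf (QuotientGroup.mk X : PSL₂))
    (by rw [QuotientGroup.mk_pow, pow_orderOf_eq_one])
  rw [Matrix.SpecialLinearGroup.coe_pow] at hone
  have hA0 : (A : Matrix (Fin 2) (Fin 2) F) + A = 0 := by
    rcases hone with h3 | h3 <;> rw [h3] at hn <;> simp at hn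
    · exact eq_neg_iff_add_eq_zero.1 hn
    · exact eq_neg_iff_add_eq_zero.1 (by simpa using hn.symm)
  have hd : (A : Matrix (Fin 2) (Fin 2) F).det = 1 := A.2
  have hz : (A : Matrix (Fin 2) (Fin 2) F) = 0 := by
    have h4 : (2 : F) • (A : Matrix (Fin 2) (Fin 2) F) = 0 := by rw [two_smul]; exact hA0
    exact (smul_eq_zero.1 h4).resolve_left h2
  rw [hz] at hd
  simp at hd

/-- A matrix with trace `0` and determinant `1` gives an element of order at most two. -/
theorem sq_eq_one_of_trace {X : SL₂} (h : (X : Matrix (Fin 2) (Fin 2) F).trace = 0) :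
    (QuotientGroup.mk X : PSL₂) ^ 2 = 1 := by
  rw [← QuotientGroup.mk_pow]
  refine mk_eq_one_of (Or.inr ?_)
  rw [Matrix.SpecialLinearGroup.coe_pow, pow_two, SL2Tor.two_sq, X.2, h, zero_smul, one_smul, zero_sub]

theorem eq_one_of_sq {L : Type*} [Group L] {x : L} (hodd : Odd (orderOf x)) (h : x ^ 2 = 1) :
    x = 1 := by
  rcases (Nat.dvd_prime Nat.prime_two).1 (orderOf_dvd_of_pow_eq_one h) with h1 | h1
  · exact orderOf_eq_one_iff.1 h1
  · rw [h1] at hodd; exact absurd hodd (by decide)

theorem commute_of_comb {X : Matrix (Fin 2) (Fin 2) F} (a b c d : F) :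
    (a • (1 : Matrix (Fin 2) (Fin 2) F) + b • X) * (c • 1 + d • X) =
      (c • 1 + d • X) * (a • 1 + b • X) := by
  simp only [add_mul, mul_add, Matrix.smul_mul, Matrix.mul_smul, one_mul, mul_one, smul_smul]
  rw [mul_comm c a, mul_comm d a, mul_comm c b, mul_comm d b]
  abel

theorem twoByTwo (h2 : (2 : F) ≠ 0) : TwoByTwo PSL₂ := by
  have anti : ∀ C D : SL₂, (C : Matrix (Fin 2) (Fin 2) F) * C = -1 →
      (D : Matrix (Fin 2) (Fin 2) F) * D = -1 → ¬ SL2Tor.IsScalar (C : Matrix (Fin 2) (Fin 2) F) →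
      ¬ SL2Tor.IsScalar (D : Matrix (Fin 2) (Fin 2) F) →
      (QuotientGroup.mk C : PSL₂) ≠ QuotientGroup.mk D →
      Commute (QuotientGroup.mk C : PSL₂) (QuotientGroup.mk D) →
      (C : Matrix (Fin 2) (Fin 2) F) * D = -((D : Matrix (Fin 2) (Fin 2) F) * C) := by
    intro C D hC hD hCs hDs hne hcomm
    rcases commute_iff_lift.1 hcomm with h | h
    · exfalso
      obtain ⟨a, b, hab⟩ := exists_comb hCs h.symm
      have hsq : (a * a - b * b) • (1 : Matrix (Fin 2) (Fin 2) F) + (2 * a * b) • (C : Matrix (Fin 2) (Fin 2) F) =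
          (-1 : F) • 1 + (0 : F) • (C : Matrix (Fin 2) (Fin 2) F) := by
        have e := hD
        rw [hab] at e
        simp only [add_mul, mul_add, Matrix.smul_mul, Matrix.mul_smul, one_mul, mul_one, smul_smul,
          hC] at e
        rw [zero_smul, add_zero, neg_one_smul, ← e, smul_neg, sub_smul,
          show 2 * a * b = a * b + b * a by ring, add_smul]
        abel
      obtain ⟨h1, h0⟩ := comb_unique hCs hsq
      rcases mul_eq_zero.1 h0 with ha | hb
      · have ha' : a = 0 := (mul_eq_zero.1 ha).resolve_left h2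
        rw [ha', zero_smul, zero_add] at hab
        rw [ha', mul_zero, zero_sub, neg_inj] at h1
        refine hne (mk_eq_of ?_)
        rcases mul_self_eq_one_iff.1 h1 with hb | hb <;> rw [hb] at hab <;> simp at hab
        · exact Or.inl hab.symm
        · exact Or.inr (by rw [hab, neg_neg])
      · rw [hb, zero_smul, add_zero] at hab
        exact hDs (hab ▸ isScalar_smul a)
    · exact h
  refine ⟨?_, ?_, ?_⟩
  · intro x g h hodd hx1 hg hh
    obtain ⟨X, rfl⟩ := QuotientGroup.mk_surjective x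
    have hXs := not_isScalar_of_ne_one hx1
    have key : ∀ G' : SL₂, Commute (QuotientGroup.mk G' : PSL₂) (QuotientGroup.mk X) →
        (G' : Matrix (Fin 2) (Fin 2) F) * X = X * G' := by
      intro G' hG'
      rcases commute_iff_lift.1 hG' with h1 | h1
      · exact h1
      exfalso
      have hinv : ((G'⁻¹ : SL₂) : Matrix (Fin 2) (Fin 2) F) * G' = 1 := by
        rw [← Matrix.SpecialLinearGroup.coe_mul, inv_mul_cancel, Matrix.SpecialLinearGroup.coe_one]
      have e : (X : Matrix (Fin 2) (Fin 2) F).trace = -(X : Matrix (Fin 2) (Fin 2) F).trace := by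
        calc (X : Matrix (Fin 2) (Fin 2) F).trace
            = (((G'⁻¹ : SL₂) : Matrix (Fin 2) (Fin 2) F) * ((G' : Matrix (Fin 2) (Fin 2) F) * X)).trace := by
              rw [← mul_assoc, hinv, one_mul]
          _ = -(X : Matrix (Fin 2) (Fin 2) F).trace := by
              rw [h1, mul_neg, Matrix.trace_neg, ← mul_assoc, Matrix.trace_mul_comm, ← mul_assoc]
              have : (G' : Matrix (Fin 2) (Fin 2) F) * ((G'⁻¹ : SL₂) : Matrix (Fin 2) (Fin 2) F) = 1 := by
                rw [← Matrix.SpecialLinearGroup.coe_mul, mul_inv_cancel, Matrix.SpecialLinearGroup.coe_one]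
              rw [this, one_mul]
      have ht : (X : Matrix (Fin 2) (Fin 2) F).trace = 0 := by
        have : (2 : F) * (X : Matrix (Fin 2) (Fin 2) F).trace = 0 := by linear_combination e
        exact (mul_eq_zero.1 this).resolve_left h2
      exact hx1 (eq_one_of_sq hodd (sq_eq_one_of_trace ht))
    obtain ⟨G', rfl⟩ := QuotientGroup.mk_surjective g
    obtain ⟨H', rfl⟩ := QuotientGroup.mk_surjective h
    obtain ⟨a, b, hab⟩ := exists_comb hXs (key G' hg)
    obtain ⟨c, d, hcd⟩ := exists_comb hXs (key H' hh)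
    exact commute_iff_lift.2 (Or.inl (by rw [hab, hcd]; exact commute_of_comb a b c d))
  · intro x c d hodd hc hd hne hcd hxc hxd
    obtain ⟨C, rfl, hC, -, hCs⟩ := lift_involution h2 hc
    obtain ⟨D, rfl, hD, -, hDs⟩ := lift_involution h2 hd
    obtain ⟨X, rfl⟩ := QuotientGroup.mk_surjective x
    have hanti := anti C D hC hD hCs hDs hne hcd
    obtain ⟨a, b, hab⟩ := exists_comb hCs (odd_lift_commute h2 hodd hxc)
    have hXD := odd_lift_commute h2 hodd hxd
    rw [hab] at hXD
    simp only [add_mul, mul_add, Matrix.smul_mul, Matrix.mul_smul, one_mul, mul_one] at hXD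
    have hb : b • ((C : Matrix (Fin 2) (Fin 2) F) * D) = b • ((D : Matrix (Fin 2) (Fin 2) F) * C) :=
      add_left_cancel hXD
    rw [hanti] at hb
    have hb0 : b = 0 := by
      by_contra hbne
      have h3 := smul_right_injective (Matrix (Fin 2) (Fin 2) F) hbne hb
      have h4 : (2 : F) • ((D : Matrix (Fin 2) (Fin 2) F) * C) = 0 := by
        rw [two_smul]
        exact eq_neg_iff_add_eq_zero.1 h3.symm
      have h5 := (smul_eq_zero.1 h4).resolve_left h2
      have h6 : ((D : Matrix (Fin 2) (Fin 2) F) * C).det = 1 := by rw [Matrix.det_mul, D.2, C.2, one_mul]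
      rw [h5] at h6
      simp at h6
    rw [hb0, zero_smul, add_zero] at hab
    exact (SL2Tor.psl_mk_eq_one_iff X).2 (hab ▸ isScalar_smul a)
  · intro x c v u hodd hx1 hc hxc hv hu hne hcomm
    obtain ⟨C, rfl, hC, hCt, hCs⟩ := lift_involution h2 hc
    obtain ⟨X, rfl⟩ := QuotientGroup.mk_surjective x
    obtain ⟨a, b, hab⟩ := exists_comb hCs (odd_lift_commute h2 hodd hxc)
    have hdet : a ^ 2 + b ^ 2 = 1 := by
      rw [← det_comb hCt C.2 a b, ← hab]; exact X.2
    have hb : b ≠ 0 := by
      rintro rfl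
      rw [zero_smul, add_zero] at hab
      exact hx1 ((SL2Tor.psl_mk_eq_one_iff X).2 (hab ▸ isScalar_smul a))
    have ha : a ≠ 0 := by
      rintro rfl
      rw [zero_smul, zero_add] at hab
      refine hx1 (eq_one_of_sq hodd (sq_eq_one_of_trace ?_))
      rw [hab, Matrix.trace_smul, hCt, smul_zero]
    obtain ⟨A, rfl, hA, hAt, hAs⟩ := lift_involution h2 hv
    obtain ⟨U, rfl, hU, -, hUs⟩ := lift_involution h2 hu
    have hanti := anti U A hU hA hUs hAs hne hcomm
    refine ⟨QuotientGroup.mk (⟨a • (1 : Matrix (Fin 2) (Fin 2) F) + b • (A : Matrix (Fin 2) (Fin 2) F),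
      (det_comb hAt A.2 a b).trans hdet⟩ : SL₂), ?_, ?_⟩
    · refine commute_iff_lift.2 (Or.inl ?_)
      simp [add_mul, mul_add]
    · intro hR
      have hUinj : ∀ M N : Matrix (Fin 2) (Fin 2) F,
          (U : Matrix (Fin 2) (Fin 2) F) * M = U * N → M = N := by
        intro M N h
        have := congrArg (fun Z => -((U : Matrix (Fin 2) (Fin 2) F) * Z)) h
        simpa [← mul_assoc, hU] using this
      rcases commute_iff_lift.1 hR with h | h
      · have e : a • (1 : Matrix (Fin 2) (Fin 2) F) + (-b) • (A : Matrix (Fin 2) (Fin 2) F) =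
            a • 1 + b • (A : Matrix (Fin 2) (Fin 2) F) := by
          refine hUinj _ _ (Eq.trans ?_ h)
          simp [mul_add, add_mul, hanti]
        have := (comb_unique hAs e).2
        have h' : (2 : F) * b = 0 := by linear_combination -this
        exact hb ((mul_eq_zero.1 h').resolve_left h2)
      · have e : a • (1 : Matrix (Fin 2) (Fin 2) F) + (-b) • (A : Matrix (Fin 2) (Fin 2) F) =
            (-a) • 1 + (-b) • (A : Matrix (Fin 2) (Fin 2) F) := by
          refine hUinj _ _ (Eq.trans ?_ (h.trans ?_))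
          · simp [mul_add, add_mul, hanti]
          · simp [mul_add]; abel
        have := (comb_unique hAs e).1
        have h' : (2 : F) * a = 0 := by linear_combination this
        exact ha ((mul_eq_zero.1 h').resolve_left h2)

end Cfsg.Agent.PSLEight2
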