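import Mathlib
import Cfsg.Prelude.Def_KGroupFacts
import Cfsg.Agent.AutPSL.Centralizer
import Cfsg.Agent.AutPSL.FiniteField
import Cfsg.Agent.PSLEight2.Matrix

/-!
Groups of automorphisms of `PSL₂(q)`, `q` odd, containing the inner ones and having abelian
2-subgroups: `q ≡ ±3 mod 8` and the 2-elements are inner.
-/

set_option autoImplicit false

namespace Cfsg.Agent.PSLEight2

open Matrix AutPSL

theorem pow_two_of_inverted {L : Type*} [Group L] {a b : L} {i j : ℕ} (ha : a ^ 2 ^ i = 1)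
    (hb : b ^ 2 ^ j = 1) (hba : b * a * b⁻¹ = a⁻¹) :
    IsPGroup 2 ↥(Subgroup.zpowers b ⊔ Subgroup.zpowers a) := by
  haveI : Fact (Nat.Prime 2) := ⟨Nat.prime_two⟩
  have hp : ∀ {x : L} {k : ℕ}, x ^ 2 ^ k = 1 → IsPGroup 2 ↥(Subgroup.zpowers x) := by
    intro x k hx
    obtain ⟨m, -, hm⟩ := (Nat.dvd_prime_pow Nat.prime_two).1 (orderOf_dvd_of_pow_eq_one hx)
    exact IsPGroup.of_card (by rw [Nat.card_zpowers, hm])
  refine (hp hb).to_sup_of_normal_right' (hp ha) (Subgroup.zpowers_le.2 ?_)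
  rw [Subgroup.mem_normalizer_iff]
  intro z
  have h : ∀ k : ℤ, b * a ^ k * b⁻¹ = a ^ (-k) := fun k => by
    rw [← conj_zpow, hba, _root_.inv_zpow, _root_.zpow_neg]
  constructor
  · rintro ⟨k, rfl⟩
    exact ⟨-k, (h k).symm⟩
  · rintro ⟨k, hk⟩
    refine ⟨-k, ?_⟩
    have h' := h (-k)
    rw [neg_neg] at h'
    have hk' : b * z * b⁻¹ = b * a ^ (-k) * b⁻¹ := by rw [h']; exact hk.symm
    exact (mul_left_cancel (mul_right_cancel hk')).symm

variable {F : Type*} [Field F] [Fintype F]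

local notation "SL₂" => Matrix.SpecialLinearGroup (Fin 2) F
local notation "PSL₂" => Matrix.ProjectiveSpecialLinearGroup (Fin 2) F

variable (h2 : (2 : F) ≠ 0) (K : Subgroup (MulAut (Matrix.ProjectiveSpecialLinearGroup (Fin 2) F)))
  (hK : Cfsg.Inn (Matrix.ProjectiveSpecialLinearGroup (Fin 2) F) ≤ K)
  (hab : ∀ Q : Subgroup (MulAut (Matrix.ProjectiveSpecialLinearGroup (Fin 2) F)),
    IsPGroup 2 ↥Q → Q ≤ K → ∀ a ∈ Q, ∀ b ∈ Q, Commute a b)

include h2

include hK hab

theorem not_isSquare_two : ¬ IsSquare (2 : F) := by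
  rintro ⟨s, hs⟩
  have hs0 : s ≠ 0 := by rintro rfl; exact h2 (by simpa using hs)
  have hchar : ∃ c d : F, c ^ 2 + d ^ 2 = -1 := by
    obtain ⟨p, hp⟩ := CharP.exists F
    haveI : NeZero p := ⟨(CharP.char_is_prime F p).ne_zero⟩
    obtain ⟨c, d, hcd⟩ := CharP.sq_add_sq F p (-1)
    exact ⟨(c : F), (d : F), by exact_mod_cast hcd⟩
  obtain ⟨c, d, hcd⟩ := hchar
  let Z : SL₂ := ⟨!![1 / s, 1 / s; -(1 / s), 1 / s], by
    rw [Matrix.det_fin_two]; simp; field_simp; linear_combination hs⟩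
  let R : SL₂ := ⟨!![c, d; d, -c], by
    rw [Matrix.det_fin_two]; simp; linear_combination -hcd⟩
  have hZ2 : (Z : Matrix (Fin 2) (Fin 2) F) * (Z : Matrix (Fin 2) (Fin 2) F) = !![(0 : F), 1; -1, 0] := by
    ext i j; fin_cases i <;> fin_cases j <;> simp [Z, Matrix.mul_apply, Fin.sum_univ_two] <;>
      field_simp <;> first | linear_combination hs | linear_combination -hs
  have hR2 : (R : Matrix (Fin 2) (Fin 2) F) * (R : Matrix (Fin 2) (Fin 2) F) = -1 := by
    ext i j; fin_cases i <;> fin_cases j <;> simp [R, Matrix.mul_apply, Fin.sum_univ_two] <;>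
      first | linear_combination hcd | linear_combination -hcd | ring
  have hRZ : (R : Matrix (Fin 2) (Fin 2) F) * (Z : Matrix (Fin 2) (Fin 2) F) * (R : Matrix (Fin 2) (Fin 2) F) = -!![1 / s, -(1 / s); 1 / s, 1 / s] := by
    ext i j; fin_cases i <;> fin_cases j <;> simp [Z, R, Matrix.mul_apply, Fin.sum_univ_two] <;>
      field_simp <;> first | linear_combination hcd | linear_combination -hcd
  set z : PSL₂ := QuotientGroup.mk Z with hzd
  set r : PSL₂ := QuotientGroup.mk R with hrd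
  have hr : r ^ 2 ^ 1 = 1 := by
    rw [pow_one, pow_two, hrd, ← QuotientGroup.mk_mul]
    exact mk_eq_one_of (Or.inr (by rw [Matrix.SpecialLinearGroup.coe_mul, hR2]))
  have hz4 : z ^ 2 ^ 2 = 1 := by
    rw [hzd, ← QuotientGroup.mk_pow]
    refine mk_eq_one_of (Or.inr ?_)
    rw [Matrix.SpecialLinearGroup.coe_pow, show (2 : ℕ) ^ 2 = 2 + 2 from rfl, pow_add, pow_two, hZ2]
    ext i j; fin_cases i <;> fin_cases j <;> simp [Matrix.mul_apply, Fin.sum_univ_two]
  have hinv : r * z * r⁻¹ = z⁻¹ := by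
    have hrr : r⁻¹ = r := inv_eq_of_mul_eq_one_right (by rw [← pow_two]; simpa using hr)
    rw [hrr, hrd, hzd, ← QuotientGroup.mk_mul, ← QuotientGroup.mk_mul, ← QuotientGroup.mk_inv]
    refine mk_eq_of (Or.inr ?_)
    rw [Matrix.SpecialLinearGroup.coe_mul, Matrix.SpecialLinearGroup.coe_mul, hRZ,
      Matrix.SpecialLinearGroup.coe_inv, Matrix.adjugate_fin_two]
    simp [Z]
  have hq := (pow_two_of_inverted hz4 hr hinv).map (MulAut.conj : PSL₂ →* MulAut PSL₂)
  have hle : (Subgroup.zpowers r ⊔ Subgroup.zpowers z).map (MulAut.conj : PSL₂ →* MulAut PSL₂) ≤ K :=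
    le_trans (by rintro _ ⟨x, -, rfl⟩; exact ⟨x, rfl⟩) hK
  have hc := hab _ hq hle _ (Subgroup.mem_map_of_mem _ (Subgroup.mem_sup_left (Subgroup.mem_zpowers r)))
    _ (Subgroup.mem_map_of_mem _ (Subgroup.mem_sup_right (Subgroup.mem_zpowers z)))
  have hinj : Function.Injective (MulAut.conj : PSL₂ →* MulAut PSL₂) := by
    intro x y hxy
    obtain ⟨X, rfl⟩ := QuotientGroup.mk_surjective x
    obtain ⟨Y, rfl⟩ := QuotientGroup.mk_surjective y
    rw [← pgl_rho, ← pgl_rho, pgl_eq_iff le_rfl] at hxy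
    obtain ⟨e, he⟩ := hxy
    have he' := congrArg Units.val he
    rw [Units.val_mul, rho_coe, rho_coe, scalarGL_coe, Matrix.mul_smul, Matrix.mul_one] at he'
    have hd := X.2
    rw [he', Matrix.det_smul, Y.2, mul_one, Fintype.card_fin, pow_two, mul_self_eq_one_iff] at hd
    refine mk_eq_of ?_
    rcases hd with h | h <;> rw [h] at he' <;> simp at he'
    · exact Or.inl (by rw [he'])
    · exact Or.inr he'
  have hcomm : r * z = z * r := hinj (by rw [map_mul, map_mul]; exact hc.eq)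
  rw [hcomm, mul_inv_cancel_right] at hinv
  have hzz : (QuotientGroup.mk (Z * Z) : PSL₂) = 1 := by
    rw [QuotientGroup.mk_mul, ← hzd, mul_eq_one_iff_eq_inv]; exact hinv
  have hsc := (SL2Tor.psl_mk_eq_one_iff _).1 hzz
  rw [Matrix.SpecialLinearGroup.coe_mul, hZ2] at hsc
  exact one_ne_zero (show (1 : F) = 0 by simpa [SL2Tor.IsScalar] using hsc.1)

theorem card_mod_eight : Fintype.card F % 8 = 3 ∨ Fintype.card F % 8 = 5 := by
  have h := not_isSquare_two h2 K hK hab
  rw [FiniteField.isSquare_two_iff] at h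
  tauto

/-- The elements of 2-power order are inner. -/
theorem inner_of_two_power (β : MulAut PSL₂) (hβ : β ∈ K) {k : ℕ} (hk : β ^ 2 ^ k = 1) :
    β ∈ Cfsg.Inn PSL₂ := by
  classical
  haveI : Fact (Nat.Prime 2) := ⟨Nat.prime_two⟩
  have hq := card_mod_eight h2 K hK hab
  obtain ⟨g, σ, β', hs, hor⟩ := exists_semi le_rfl β
  rcases hor with rfl | ⟨h3, -⟩
  swap; · omega
  have hσ : σ = 1 := by
    by_contra hne
    have hpow : σ ^ 2 ^ k = 1 := by
      have := IsSemi.pow hs (2 ^ k)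
      rw [hk] at this
      exact (IsSemi.eq_one le_rfl this).1
    obtain ⟨m, -, hm⟩ := (Nat.dvd_prime_pow Nat.prime_two).1 (orderOf_dvd_of_pow_eq_one hpow)
    have hev : 2 ∣ orderOf σ := by
      rcases Nat.eq_zero_or_pos m with rfl | hm0
      · exact absurd (orderOf_eq_one_iff.1 (hm.trans (pow_zero 2))) hne
      · rw [hm]; exact dvd_pow_self 2 hm0.ne'
    obtain ⟨l, hl⟩ := hev
    have hcard := card_fixed_pow σ
    rw [hl, mul_comm 2 l, pow_mul, Nat.card_eq_fintype_card (α := F)] at hcard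
    generalize Nat.card {x : F // σ x = x} ^ l = w at hcard
    obtain ⟨u, rfl | rfl⟩ := Nat.even_or_odd' w
    · rw [← hcard] at hq
      have : (2 * u) ^ 2 = 4 * u ^ 2 := by ring
      omega
    · rw [← hcard] at hq
      obtain ⟨w', hw'⟩ : 2 ∣ u * (u + 1) := even_iff_two_dvd.1 (Nat.even_mul_succ_self u)
      have : (2 * u + 1) ^ 2 = 4 * (u * (u + 1)) + 1 := by ring
      omega
  subst hσ
  obtain rfl := eq_pgl hs
  by_cases hdet : IsSquare (Matrix.GeneralLinearGroup.det g)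
  · rw [inn_eq_map le_rfl]
    refine ⟨g, (QuotientGroup.eq_one_iff _).2 ?_, rfl⟩
    obtain ⟨c, hc⟩ := hdet
    exact ⟨c, by rw [powMonoidHom_apply, pow_two]; exact hc.symm⟩
  exfalso
  have hall : ∀ h : GL (Fin 2) F, pgl 2 F h ∈ K := by
    intro h
    have hsq : ∀ h : GL (Fin 2) F, IsSquare (Matrix.GeneralLinearGroup.det h) → pgl 2 F h ∈ K := by
      intro h ⟨c, hc⟩
      refine hK ?_
      rw [inn_eq_map le_rfl]
      exact ⟨h, (QuotientGroup.eq_one_iff _).2 ⟨c, by rw [powMonoidHom_apply, pow_two]; exact hc.symm⟩, rfl⟩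
    by_cases hh : IsSquare (Matrix.GeneralLinearGroup.det h)
    · exact hsq h hh
    have hprod : IsSquare (Matrix.GeneralLinearGroup.det (g * h)) := by
      have hns : ∀ a : Fˣ, ¬ IsSquare a → quadraticChar F (a : F) = -1 := by
        intro a ha
        rw [quadraticChar_neg_one_iff_not_isSquare]
        rintro ⟨b, hb⟩
        have hb0 : b ≠ 0 := by rintro rfl; exact a.ne_zero (by simpa using hb)
        exact ha ⟨Units.mk0 b hb0, Units.ext (by simpa using hb)⟩
      have h1 : quadraticChar F ((Matrix.GeneralLinearGroup.det (g * h) : Fˣ) : F) = 1 := by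
        rw [map_mul, Units.val_mul, map_mul, hns _ hdet, hns _ hh]; norm_num
      obtain ⟨b, hb⟩ := (quadraticChar_one_iff_isSquare (Units.ne_zero _)).1 h1
      have hb0 : b ≠ 0 := by
        rintro rfl
        exact Units.ne_zero _ (hb.trans (mul_zero 0))
      exact ⟨Units.mk0 b hb0, Units.ext (by simpa using hb)⟩
    have := K.mul_mem (K.inv_mem hβ) (hsq _ hprod)
    rwa [map_mul, inv_mul_cancel_left] at this
  have hchar2 : IsUnit (Matrix.det !![(1 : F), 1; -1, 1]) := by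
    rw [Matrix.det_fin_two]; simp
    have : (1 : F) + 1 = 2 := one_add_one_eq_two
    rw [this]; exact h2
  let Z : GL (Fin 2) F := Matrix.GeneralLinearGroup.mk'' _ hchar2
  let R : GL (Fin 2) F := Matrix.GeneralLinearGroup.mk'' !![(1 : F), 0; 0, -1] (by
    rw [Matrix.det_fin_two]; simp)
  have h4 : (-4 : F) ≠ 0 := by
    rw [show (-4 : F) = -(2 * 2) by norm_num, neg_ne_zero]; exact mul_ne_zero h2 h2
  have hz : pgl 2 F Z ^ 2 ^ 2 = 1 := by
    rw [← map_pow, pgl_eq_one_iff le_rfl]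
    refine ⟨Units.mk0 (-4) h4, Units.ext ?_⟩
    rw [Units.val_pow_eq_pow_val, scalarGL_coe]
    show (!![(1 : F), 1; -1, 1] : Matrix (Fin 2) (Fin 2) F) ^ (2 + 2) = _
    rw [pow_add, pow_two]
    ext i j; fin_cases i <;> fin_cases j <;> simp [Matrix.mul_apply, Fin.sum_univ_two] <;> ring
  have hrR : R * R = 1 := Units.ext (by
    show !![(1 : F), 0; 0, -1] * !![(1 : F), 0; 0, -1] = 1
    ext i j; fin_cases i <;> fin_cases j <;> simp [Matrix.mul_apply, Fin.sum_univ_two])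
  have hr : pgl 2 F R ^ 2 ^ 1 = 1 := by
    rw [pow_one, pow_two, ← map_mul, hrR, map_one]
  have hinv : pgl 2 F R * pgl 2 F Z * (pgl 2 F R)⁻¹ = (pgl 2 F Z)⁻¹ := by
    rw [← map_inv, ← map_inv, ← map_mul, ← map_mul, inv_eq_of_mul_eq_one_right hrR,
      pgl_eq_iff le_rfl]
    refine ⟨Units.mk0 2 h2, eq_inv_mul_of_mul_eq (Units.ext ?_)⟩
    rw [Units.val_mul, Units.val_mul, Units.val_mul, scalarGL_coe]
    show !![(1 : F), 1; -1, 1] * (!![(1 : F), 0; 0, -1] * !![(1 : F), 1; -1, 1] * !![(1 : F), 0; 0, -1]) = _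
    ext i j; fin_cases i <;> fin_cases j <;> simp [Matrix.mul_apply, Fin.sum_univ_two] <;> ring
  have hle : Subgroup.zpowers (pgl 2 F R) ⊔ Subgroup.zpowers (pgl 2 F Z) ≤ K :=
    sup_le (Subgroup.zpowers_le.2 (hall _)) (Subgroup.zpowers_le.2 (hall _))
  have hc : Commute (pgl 2 F R) (pgl 2 F Z) := hab _ (pow_two_of_inverted hz hr hinv) hle _
    (Subgroup.mem_sup_left (Subgroup.mem_zpowers _)) _ (Subgroup.mem_sup_right (Subgroup.mem_zpowers _))
  rw [hc.eq, mul_inv_cancel_right, ← mul_eq_one_iff_eq_inv, ← map_mul, pgl_eq_one_iff le_rfl] at hinv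
  obtain ⟨c, hc'⟩ := hinv
  have h01 : ((Z * Z : GL (Fin 2) F) : Matrix (Fin 2) (Fin 2) F) 0 1 =
      ((scalarGL (Fin 2) c : GL (Fin 2) F) : Matrix (Fin 2) (Fin 2) F) 0 1 := by rw [hc']
  rw [Units.val_mul, scalarGL_coe] at h01
  simp [Z, Matrix.mul_apply, Fin.sum_univ_two, one_add_one_eq_two, h2] at h01

end Cfsg.Agent.PSLEight2
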