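import Mathlib
import Cfsg.Prelude.Def_TwoFusion
import Cfsg.Agent.Classical10.SL2Sylow
import Cfsg.Agent.Lib.LinearGroup.SmallPSL
import Cfsg.Agent.PSLEight2.Aut

/-!
The centraliser `⟨t⟩ × E` of an involution, `E` between `PSL₂(q)` and its automorphism group, in a
group with abelian Sylow 2-subgroups.
-/

set_option autoImplicit false

namespace Cfsg.Agent.PSLEight2

open Subgroup

variable {G : Type*} [Group G]

/-- What the hypotheses give about the centraliser of `t`. -/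
structure Setting (t : G) (E E₀ : Subgroup G) : Prop where
  two : orderOf t = 2
  cases : ∀ g : G, Commute g t → g ∈ E ∨ t * g ∈ E
  comm : ∀ e ∈ E, Commute e t
  t_notMem : t ∉ E
  le : E₀ ≤ E
  conj_mem : ∀ e ∈ E, ∀ x ∈ E₀, e * x * e⁻¹ ∈ E₀
  faithful : ∀ e ∈ E, (∀ x ∈ E₀, Commute e x) → e = 1
  facts : TwoByTwo ↥E₀
  inner : ∀ e ∈ E, ∀ k : ℕ, e ^ 2 ^ k = 1 → e ∈ E₀

theorem t_mul_self {t : G} (h : orderOf t = 2) : t * t = 1 := by
  rw [← pow_two, ← h, pow_orderOf_eq_one]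

theorem cases_of_product {t : G} (h2 : orderOf t = 2) {E : Subgroup G}
    (h : Cfsg.IsInternalDirectProduct (zpowers t) E (centralizer ({t} : Set G))) :
    (∀ g : G, Commute g t → g ∈ E ∨ t * g ∈ E) ∧ (∀ e ∈ E, Commute e t) ∧ t ∉ E := by
  obtain ⟨-, hE, hcomm, hinf, hsup⟩ := h
  have hte : ∀ e ∈ E, Commute e t := fun e he => (hcomm t (mem_zpowers t) e he).symm
  refine ⟨?_, hte, fun ht => ?_⟩
  · let P : Subgroup G :=
      { carrier := {g | (g ∈ E ∨ t * g ∈ E) ∧ Commute g t}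
        one_mem' := ⟨Or.inl E.one_mem, Commute.one_left t⟩
        mul_mem' := by
          rintro a b ⟨ha, hat⟩ ⟨hb, hbt⟩
          refine ⟨?_, hat.mul_left hbt⟩
          rcases ha with ha | ha <;> rcases hb with hb | hb
          · exact Or.inl (E.mul_mem ha hb)
          · exact Or.inr (by rw [← mul_assoc, ← hat.eq, mul_assoc]; exact E.mul_mem ha hb)
          · exact Or.inr (by rw [← mul_assoc]; exact E.mul_mem ha hb)
          · have e : t * a * (t * b) = a * b := by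
              rw [← hat.eq, mul_assoc, ← mul_assoc t t b, t_mul_self h2, one_mul]
            exact Or.inl (e ▸ E.mul_mem ha hb)
        inv_mem' := by
          rintro a ⟨ha, hat⟩
          refine ⟨?_, hat.inv_left⟩
          rcases ha with ha | ha
          · exact Or.inl (E.inv_mem ha)
          · refine Or.inr ?_
            have e : t * a⁻¹ = (t * a)⁻¹ := by
              rw [_root_.mul_inv_rev, inv_eq_of_mul_eq_one_right (t_mul_self h2)]
              exact hat.inv_left.symm.eq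
            rw [e]; exact E.inv_mem ha }
    intro g hg
    have hle : zpowers t ⊔ E ≤ P := sup_le (zpowers_le.2 ⟨Or.inr (by rw [t_mul_self h2]; exact E.one_mem),
      Commute.refl t⟩) fun e he => ⟨Or.inl he, hte e he⟩
    exact (hle (hsup.symm ▸ mem_centralizer_singleton_iff.2 hg.eq : g ∈ zpowers t ⊔ E)).1
  · have : t ∈ zpowers t ⊓ E := ⟨mem_zpowers t, ht⟩
    rw [hinf, mem_bot] at this
    rw [this, orderOf_one] at h2
    omega

variable [Finite G]

theorem two_subgroups_comm (S : Sylow 2 G) (hS : IsMulCommutative (S : Subgroup G))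
    {Q : Subgroup G} (hQ : IsPGroup 2 ↥Q) : ∀ a ∈ Q, ∀ b ∈ Q, Commute a b := by
  haveI : Fact (Nat.Prime 2) := ⟨Nat.prime_two⟩
  obtain ⟨T, hT⟩ := hQ.exists_le_sylow
  intro a ha b hb
  have e : ↥(T : Subgroup G) ≃* ↥(S : Subgroup G) := T.equiv S
  have h : (⟨a, hT ha⟩ : ↥(T : Subgroup G)) * ⟨b, hT hb⟩ = ⟨b, hT hb⟩ * ⟨a, hT ha⟩ :=
    e.injective (by rw [map_mul, map_mul]; exact hS.1.comm _ _)
  exact congrArg Subtype.val h

/-- The hypotheses give a `Setting`, and a Sylow four-group of `E₀`. -/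
theorem exists_setting (S : Sylow 2 G) (hS : IsMulCommutative (S : Subgroup G)) (t : G)
    (ht : orderOf t = 2) (E E₀ : Subgroup G)
    (hprod : Cfsg.IsInternalDirectProduct (zpowers t) E (centralizer ({t} : Set G))) (hle : E₀ ≤ E)
    (hn : (E₀.subgroupOf E).Normal) {F : Type} [Field F] [Fintype F] (hodd : Odd (Fintype.card F))
    (e₀ : E₀ ≃* Matrix.ProjectiveSpecialLinearGroup (Fin 2) F)
    (hCE : E ⊓ centralizer (E₀ : Set G) = ⊥) :
    Setting t E E₀ ∧ (Fintype.card F % 8 = 3 ∨ Fintype.card F % 8 = 5) ∧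
      ∃ V : Subgroup G, V ≤ E₀ ∧ Nat.card V = 4 ∧ (∀ v ∈ V, v * v = 1) ∧
        ∀ Q : Subgroup G, Q ≤ E₀ → IsPGroup 2 ↥Q → V ≤ Q → Q = V := by
  haveI : Fact (Nat.Prime 2) := ⟨Nat.prime_two⟩
  have h2 : (2 : F) ≠ 0 := Ring.two_ne_zero fun e2 => by
    have := FiniteField.even_card_of_char_two e2
    exact (Nat.not_even_iff_odd.2 hodd) (Nat.even_iff.2 this)
  obtain ⟨hcases, hcomm, htE⟩ := cases_of_product ht hprod
  haveI := hn
  let L := E₀.subgroupOf E
  let e : ↥L ≃* Matrix.ProjectiveSpecialLinearGroup (Fin 2) F := (subgroupOfEquivOfLe hle).trans e₀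
  let ι : ↥E →* MulAut (Matrix.ProjectiveSpecialLinearGroup (Fin 2) F) :=
    (MulAut.congr e).toMonoidHom.comp (MulAut.conjNormal (H := L))
  have hι : Function.Injective ι := by
    refine (injective_iff_map_eq_one ι).2 fun x hx => ?_
    have hx' : MulAut.conjNormal (H := L) x = 1 :=
      (MulAut.congr e).injective (by rw [map_one]; exact hx)
    apply Subtype.ext
    refine mem_bot.1 (hCE ▸ ⟨x.2, mem_centralizer_iff.2 fun y hy => ?_⟩ : (x : G) ∈ (⊥ : Subgroup G))
    have h := congrArg (fun m : MulAut ↥L => ((m ⟨⟨y, hle hy⟩, hy⟩ : ↥L) : G)) hx'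
    simp only [MulAut.conjNormal_apply, MulAut.one_apply, Subgroup.coe_mul,
      InvMemClass.coe_inv] at h
    rw [mul_inv_eq_iff_eq_mul] at h
    exact h.symm
  have hInn : Cfsg.Inn (Matrix.ProjectiveSpecialLinearGroup (Fin 2) F) ≤ ι.range := by
    rintro _ ⟨y, rfl⟩
    refine ⟨((e.symm y : ↥L) : ↥E), MulEquiv.ext fun z => ?_⟩
    show e (MulAut.conjNormal (H := L) ((e.symm y : ↥L) : ↥E) (e.symm z)) = y * z * y⁻¹
    rw [show MulAut.conjNormal (H := L) ((e.symm y : ↥L) : ↥E) (e.symm z) =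
      e.symm y * e.symm z * (e.symm y)⁻¹ from Subtype.ext (MulAut.conjNormal_apply _ _)]
    simp
  have hab : ∀ Q : Subgroup (MulAut (Matrix.ProjectiveSpecialLinearGroup (Fin 2) F)),
      IsPGroup 2 ↥Q → Q ≤ ι.range → ∀ a ∈ Q, ∀ b ∈ Q, Commute a b := by
    intro Q hQ hQr a ha b hb
    obtain ⟨x, rfl⟩ := hQr ha
    obtain ⟨y, rfl⟩ := hQr hb
    have hc := two_subgroups_comm S hS ((hQ.comap_of_injective ι hι).map E.subtype)
      (x : G) (mem_map_of_mem _ (mem_comap.2 ha)) (y : G) (mem_map_of_mem _ (mem_comap.2 hb))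
    exact (show Commute x y from Subtype.ext hc).map ι
  have hmod := card_mod_eight h2 ι.range hInn hab
  refine ⟨⟨ht, hcases, hcomm, htE, hle, fun x hx y hy => ?_, fun x hx h => ?_,
    (twoByTwo h2).of_mulEquiv e₀.symm, fun x hx k hk => ?_⟩, hmod, ?_⟩
  · have := hn.conj_mem ⟨y, hle hy⟩ (mem_subgroupOf.2 hy) ⟨x, hx⟩
    simpa [mem_subgroupOf] using this
  · exact mem_bot.1 (hCE ▸ ⟨hx, mem_centralizer_iff.2 fun y hy => (h y hy).symm.eq⟩ : x ∈ (⊥ : Subgroup G))
  · have hk' : ι ⟨x, hx⟩ ^ 2 ^ k = 1 := by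
      rw [← map_pow, show (⟨x, hx⟩ : ↥E) ^ 2 ^ k = 1 from Subtype.ext hk, map_one]
    obtain ⟨y, hy⟩ := inner_of_two_power h2 ι.range hInn hab _ ⟨_, rfl⟩ hk'
    have heq : (⟨x, hx⟩ : ↥E) = ((e.symm y : ↥L) : ↥E) := by
      refine hι (hy.symm.trans (MulEquiv.ext fun z => ?_))
      show y * z * y⁻¹ = e (MulAut.conjNormal (H := L) ((e.symm y : ↥L) : ↥E) (e.symm z))
      rw [show MulAut.conjNormal (H := L) ((e.symm y : ↥L) : ↥E) (e.symm z) =
        e.symm y * e.symm z * (e.symm y)⁻¹ from Subtype.ext (MulAut.conjNormal_apply _ _)]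
      simp
    have hmem := (e.symm y).2
    rw [← heq] at hmem
    exact mem_subgroupOf.1 hmem
  · obtain ⟨P⟩ : Nonempty (Sylow 2 ↥E₀) := inferInstance
    let P' := P.mapSurjective (f := e₀.toMonoidHom) e₀.surjective
    have hK := Classical10.isKleinFour_sylow_PSL rfl hmod P'
    have hcard : Nat.card ↥(P : Subgroup ↥E₀) = 4 := by
      rw [← hK.card_four]
      exact Nat.card_congr
        ((P : Subgroup ↥E₀).equivMapOfInjective e₀.toMonoidHom e₀.injective).toEquiv
    refine ⟨(P : Subgroup ↥E₀).map E₀.subtype, map_subtype_le _, ?_, ?_, fun Q hQ hQ2 hVQ => ?_⟩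
    · rw [card_map_of_injective E₀.subtype_injective]; exact hcard
    · rintro _ ⟨x, hx, rfl⟩
      rw [← map_mul, ← map_one E₀.subtype]
      congr 1
      apply e₀.injective
      have := hK.exponent_two
      have hmem : e₀ x ∈ (P' : Subgroup _) := mem_map_of_mem e₀.toMonoidHom hx
      have h' := Monoid.pow_exponent_eq_one (⟨e₀ x, hmem⟩ : ↥(P' : Subgroup _))
      rw [this] at h'
      rw [map_one, map_mul, ← pow_two]
      exact congrArg Subtype.val h'
    · have hQP : Q.subgroupOf E₀ = (P : Subgroup ↥E₀) :=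
        P.is_maximal' (hQ2.of_equiv (subgroupOfEquivOfLe hQ).symm) (fun x hx =>
          mem_subgroupOf.2 (hVQ (mem_map_of_mem _ hx)))
      rw [← hQP, map_subgroupOf_eq_of_le hQ]

end Cfsg.Agent.PSLEight2
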