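import Mathlib
import Cfsg.Agent.PSLEight2.Local

/-!
A normal subgroup of odd order inverted by `t` meets the centralisers of the involutions of the
four-group trivially.
-/

set_option autoImplicit false

namespace Cfsg.Agent.PSLEight2

open Subgroup

variable {G : Type*} [Group G] {t : G} {E E₀ : Subgroup G}

theorem Setting.exists_proj (D : Setting t E E₀) {g : G} (hg : Commute g t) :
    ∃ e ∈ E, (g = e ∨ g = t * e) ∧ ∀ z ∈ E, g * z * g⁻¹ = e * z * e⁻¹ := by
  rcases D.cases g hg with h | h
  · exact ⟨g, h, Or.inl rfl, fun z _ => rfl⟩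
  · have e1 : t * (t * g) = g := by rw [← mul_assoc, t_mul_self D.two, one_mul]
    refine ⟨t * g, h, Or.inr e1.symm, fun z hz => ?_⟩
    have hc := D.comm _ (E.mul_mem (E.mul_mem h hz) (E.inv_mem h))
    calc g * z * g⁻¹ = t * (t * g * z * (t * g)⁻¹) * t⁻¹ := by
          rw [inv_eq_of_mul_eq_one_right (t_mul_self D.two), _root_.mul_inv_rev,
            inv_eq_of_mul_eq_one_right (t_mul_self D.two)]
          simp [mul_assoc, ← mul_assoc t t, t_mul_self D.two]
      _ = t * g * z * (t * g)⁻¹ := by rw [← hc.eq, mul_inv_cancel_right]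

theorem Setting.odd_mem (D : Setting t E E₀) {g : G} (hg : Commute g t) (ho : Odd (orderOf g)) :
    g ∈ E := by
  rcases D.cases g hg with h | h
  · exact h
  exfalso
  have h' := E.pow_mem h (orderOf g)
  rw [hg.symm.mul_pow, pow_orderOf_eq_one, mul_one] at h'
  obtain ⟨k, hk⟩ := ho
  rw [hk, pow_succ, pow_mul, pow_two, t_mul_self D.two, one_pow, one_mul] at h'
  exact D.t_notMem h'

theorem commute_of_proj {a b e f : G} {t : G} (hab : Commute e f) (he : Commute e t) (hf : Commute f t)
    (ha : a = e ∨ a = t * e) (hb : b = f ∨ b = t * f) : Commute a b := by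
  rcases ha with rfl | rfl <;> rcases hb with rfl | rfl
  · exact hab
  · exact he.mul_right hab
  · exact hf.symm.mul_left hab
  · exact ((Commute.refl t).mul_right hf.symm).mul_left (he.mul_right hab)

variable [Finite G]

/-- The key step: an odd subgroup inverted by `t` and normalised by `C(t)` has trivial intersection
with `C(v)`. -/
theorem Setting.cent_inverted (D : Setting t E E₀) {v u n : G} (hv : v ∈ E₀) (hu : u ∈ E₀)
    (hv2 : v * v = 1) (hu2 : u * u = 1) (hv1 : v ≠ 1) (hu1 : u ≠ 1) (huv : u ≠ v) (hcuv : Commute u v)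
    (hn : n * v * n⁻¹ = t) {N : Subgroup G} (hodd : Odd (Nat.card N))
    (hnorm : ∀ g : G, Commute g t → ∀ y ∈ N, g * y * g⁻¹ ∈ N)
    (hinv : ∀ y ∈ N, t * y * t⁻¹ = y⁻¹)
    {y₀ : G} (hy₀N : y₀ ∈ N) (hy₀v : Commute y₀ v) : y₀ = 1 := by
  classical
  by_contra hy₀
  have hut : Commute u t := D.comm u (D.le hu)
  have hvt : Commute v t := D.comm v (D.le hv)
  have htt := t_mul_self D.two
  have hcomm : ∀ a ∈ N, ∀ b ∈ N, Commute a b := by
    intro a ha b hb
    have h := hinv (a * b) (N.mul_mem ha hb)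
    rw [show t * (a * b) * t⁻¹ = (t * a * t⁻¹) * (t * b * t⁻¹) by group, hinv a ha, hinv b hb,
      ← _root_.mul_inv_rev, inv_inj] at h
    exact h.symm
  let φ : G ≃* G := MulAut.conj n
  have hφv : φ v = t := hn
  have hφt : ∀ y : G, Commute y v → Commute (φ y) t := fun y hy => hφv ▸ hy.map φ
  obtain ⟨et, hetE, hetc, hetconj⟩ := D.exists_proj (hφt t hvt.symm)
  obtain ⟨eu, heuE, heuc, heuconj⟩ := D.exists_proj (hφt u hcuv)
  have sq : ∀ {a e : G}, a * a = 1 → e ∈ E → (φ a = e ∨ φ a = t * e) → e * e = 1 := by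
    intro a e ha he h
    have h1 : φ a * φ a = 1 := by rw [← map_mul, ha, map_one]
    rcases h with h | h <;> rw [h] at h1
    · exact h1
    · rw [show t * e * (t * e) = t * (e * t) * e by group, (D.comm e he).eq,
        show t * (t * e) * e = (t * t) * (e * e) by group, htt, one_mul] at h1
      exact h1
  have het2 := sq htt hetE hetc
  have heu2 := sq hu2 heuE heuc
  have inE₀ : ∀ {e : G}, e ∈ E → e * e = 1 → e ∈ E₀ := fun he h =>
    D.inner _ he 1 (by rw [pow_one, pow_two, h])
  have het₀ := inE₀ hetE het2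
  have heu₀ := inE₀ heuE heu2
  have hinj : Function.Injective φ := φ.injective
  have hne : ∀ {a e : G}, (φ a = e ∨ φ a = t * e) → a ≠ 1 → a ≠ v → e ≠ 1 := by
    intro a e h ha hav he
    subst he
    rcases h with h | h
    · exact ha (hinj (h.trans (map_one φ).symm))
    · exact hav (hinj (by rw [h, mul_one, hφv]))
  have htv : t ≠ v := fun h => D.t_notMem (h ▸ D.le hv)
  have ht1 : t ≠ 1 := fun h => by
    have := D.two
    rw [h, orderOf_one] at this
    omega
  have het1 := hne hetc ht1 htv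
  have heu1 := hne heuc hu1 huv
  have hetu : et ≠ eu := by
    intro h
    have hh : φ (t * u) = 1 ∨ φ (t * u) = t := by
      rw [map_mul]
      rcases hetc with h1 | h1 <;> rcases heuc with h2 | h2 <;> rw [h1, h2, h]
      · exact Or.inl heu2
      · right
        rw [← mul_assoc, (D.comm _ heuE).eq, mul_assoc, heu2, mul_one]
      · right
        rw [mul_assoc, heu2, mul_one]
      · left
        rw [show t * eu * (t * eu) = t * (eu * t) * eu by group, (D.comm _ heuE).eq,
          show t * (t * eu) * eu = (t * t) * (eu * eu) by group, htt, one_mul, heu2]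
    rcases hh with h3 | h3
    · have h4 : t * u = 1 := hinj (h3.trans (map_one φ).symm)
      rw [mul_eq_one_iff_eq_inv, inv_eq_of_mul_eq_one_right hu2] at h4
      exact D.t_notMem (h4 ▸ D.le hu)
    · have h4 : t * u = v := hinj (h3.trans hφv.symm)
      have h5 : t = v * u := by rw [← h4, mul_assoc, hu2, mul_one]
      exact D.t_notMem (h5 ▸ E.mul_mem (D.le hv) (D.le hu))
  have hetu_comm : Commute et eu := by
    have hc : Commute (φ t) (φ u) := hut.symm.map φ
    have h1 : Commute et (φ u) := by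
      rcases hetc with h | h <;> rw [h] at hc
      · exact hc
      · have := (hφt u hcuv).symm.mul_left hc
        rwa [← mul_assoc, htt, one_mul] at this
    rcases heuc with h | h <;> rw [h] at h1
    · exact h1
    · have := (D.comm _ hetE).mul_right h1
      rwa [← mul_assoc, htt, one_mul] at this
  -- the image of the centraliser of `v` in `N`
  have img : ∀ y ∈ N, Commute y v → φ y ∈ E₀ ∧ Odd (orderOf (φ y)) ∧
      et * φ y * et⁻¹ = (φ y)⁻¹ := by
    intro y hy hyv
    have ho : Odd (orderOf (φ y)) := by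
      rw [MulEquiv.orderOf_eq]
      exact hodd.of_dvd_nat (N.orderOf_dvd_natCard hy)
    have hE := D.odd_mem (hφt y hyv) ho
    have he : et * φ y * et⁻¹ = (φ y)⁻¹ := by
      rw [← hetconj _ hE, ← map_inv, ← map_mul, ← map_mul, hinv y hy, map_inv]
    refine ⟨?_, ho, he⟩
    have h2 : φ y ^ 2 ∈ E₀ := by
      have h := D.conj_mem _ hE _ (E₀.inv_mem het₀)
      have h' := E₀.mul_mem het₀ h
      rw [show et * (φ y * et⁻¹ * (φ y)⁻¹) = (et * φ y * et⁻¹) * (φ y)⁻¹ by group, he] at h'
      have h'' := E₀.inv_mem h'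
      rwa [_root_.mul_inv_rev, inv_inv, ← pow_two] at h''
    obtain ⟨k, hk⟩ := ho
    have : (φ y ^ 2) ^ (k + 1) = φ y := by
      rw [← pow_mul, show 2 * (k + 1) = (2 * k + 1) + 1 by ring, pow_succ, ← hk, pow_orderOf_eq_one,
        one_mul]
    exact this ▸ E₀.pow_mem h2 _
  set x₀ := φ y₀ with hx₀
  obtain ⟨hx₀E, hx₀o, hx₀t⟩ := img y₀ hy₀N hy₀v
  have hx₀1 : x₀ ≠ 1 := fun h => hy₀ (hinj (h.trans (map_one φ).symm))
  -- facts of `PSL₂` inside `G`
  have habel : ∀ x g h : G, x ∈ E₀ → g ∈ E₀ → h ∈ E₀ → Odd (orderOf x) → x ≠ 1 → Commute g x →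
      Commute h x → Commute g h := by
    intro x g h hx hg hh ho hx1 hgx hhx
    have := D.facts.abelian ⟨x, hx⟩ ⟨g, hg⟩ ⟨h, hh⟩ (by rwa [← Subgroup.orderOf_coe])
      (fun he => hx1 (congrArg Subtype.val he)) (Subtype.ext hgx) (Subtype.ext hhx)
    exact congrArg Subtype.val this.eq
  have ord2 : ∀ {a : G}, a * a = 1 → a ≠ 1 → orderOf a = 2 := fun h h1 =>
    orderOf_eq_prime (by rw [pow_two, h]) h1
  -- the involution centralising the image
  obtain ⟨c, hc₀, hc2, hc1, hceu, hcall⟩ : ∃ c : G, c ∈ E₀ ∧ c * c = 1 ∧ c ≠ 1 ∧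
      (eu = c ∨ eu = et * c) ∧ ∀ y ∈ N, Commute y v → Commute (φ y) c := by
    by_cases hex : ∃ y ∈ N, Commute y v ∧ y ≠ 1 ∧ Commute (φ y) eu
    · obtain ⟨y, hy, hyv, hy1, hyu⟩ := hex
      obtain ⟨hxE, hxo, -⟩ := img y hy hyv
      refine ⟨eu, heu₀, heu2, heu1, Or.inl rfl, fun z hz hzv => ?_⟩
      exact habel _ _ _ hxE (img z hz hzv).1 heu₀ hxo
        (fun h => hy1 (hinj (h.trans (map_one φ).symm))) ((hcomm z hz y hy).map φ) hyu.symm
    · push Not at hex
      refine ⟨et * eu, E₀.mul_mem het₀ heu₀, ?_, ?_, Or.inr ?_, fun z hz hzv => ?_⟩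
      · rw [show et * eu * (et * eu) = et * (eu * et) * eu by group, ← hetu_comm.eq,
          show et * (et * eu) * eu = (et * et) * (eu * eu) by group, het2, heu2, one_mul]
      · intro h
        rw [mul_eq_one_iff_eq_inv, inv_eq_of_mul_eq_one_right heu2] at h
        exact hetu h
      · rw [← mul_assoc, het2, one_mul]
      · obtain ⟨hzE, -, hzt⟩ := img z hz hzv
        have hzu : u * z * u⁻¹ ∈ N := hnorm u hut z hz
        have hzuv : Commute (u * z * u⁻¹) v :=
          (hcuv.mul_left hzv).mul_left hcuv.inv_left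
        have hflip : φ (u * z * u⁻¹) = eu * φ z * eu⁻¹ := by
          rw [map_mul, map_mul, map_inv]; exact heuconj _ (D.le hzE)
        have hfix : Commute (φ (z * (u * z * u⁻¹))) eu := by
          rw [map_mul, hflip, inv_eq_of_mul_eq_one_right heu2]
          have hzz : Commute (φ z) (eu * φ z * eu) := by
            have := (hcomm z hz _ hzu).map φ
            rwa [hflip, inv_eq_of_mul_eq_one_right heu2] at this
          show φ z * (eu * φ z * eu) * eu = eu * (φ z * (eu * φ z * eu))
          calc φ z * (eu * φ z * eu) * eu = φ z * eu * φ z * (eu * eu) := by group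
            _ = φ z * eu * φ z := by rw [heu2, mul_one]
            _ = (eu * eu) * (φ z * eu * φ z) := by rw [heu2, one_mul]
            _ = eu * ((eu * φ z * eu) * φ z) := by group
            _ = eu * (φ z * (eu * φ z * eu)) := by rw [← hzz.eq]
        have h1 : z * (u * z * u⁻¹) = 1 := by
          by_contra hne'
          exact hex _ (N.mul_mem hz hzu) (hzv.mul_left hzuv) hne' hfix
        have hi : eu * φ z * eu⁻¹ = (φ z)⁻¹ := by
          rw [← hflip, ← map_inv]
          exact congrArg φ (eq_inv_of_mul_eq_one_right h1)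
        show φ z * (et * eu) = et * eu * φ z
        calc φ z * (et * eu) = (et * (φ z)⁻¹ * et⁻¹) * (et * eu) := by
              rw [show et * (φ z)⁻¹ * et⁻¹ = (et * φ z * et⁻¹)⁻¹ by group, hzt, inv_inv]
          _ = et * ((φ z)⁻¹ * eu) := by group
          _ = et * ((eu * φ z * eu⁻¹) * eu) := by rw [hi]
          _ = et * eu * φ z := by group
  have hcx := hcall y₀ hy₀N hy₀v
  obtain ⟨r, hrv, hru⟩ := D.facts.torus ⟨x₀, hx₀E⟩ ⟨c, hc₀⟩ ⟨v, hv⟩ ⟨u, hu⟩
    (by rwa [← Subgroup.orderOf_coe]) (fun h => hx₀1 (congrArg Subtype.val h))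
    (by rw [← Subgroup.orderOf_coe]; exact ord2 hc2 hc1) (Subtype.ext hcx)
    (by rw [← Subgroup.orderOf_coe]; exact ord2 hv2 hv1)
    (by rw [← Subgroup.orderOf_coe]; exact ord2 hu2 hu1)
    (fun h => huv (congrArg Subtype.val h)) (Subtype.ext hcuv)
  have hrv' : Commute (r : G) v := congrArg Subtype.val hrv.eq
  have hru' : ¬ Commute (r : G) u := fun h => hru (Subtype.ext h.eq)
  have hrt : Commute (r : G) t := D.comm _ (D.le r.2)
  obtain ⟨er, herE, herc, herconj⟩ := D.exists_proj (hφt _ hrv')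
  have herc' : Commute er c := by
    have hc' : er * c * er⁻¹ ∈ E₀ := D.conj_mem _ herE _ hc₀
    have hcx' : Commute (er * c * er⁻¹) x₀ := by
      have hy' : (r : G)⁻¹ * y₀ * r ∈ N := by
        simpa using hnorm _ hrt.inv_left y₀ hy₀N
      have hyv' : Commute ((r : G)⁻¹ * y₀ * r) v := (hrv'.inv_left.mul_left hy₀v).mul_left hrv'
      have hh := hcall _ hy' hyv'
      have hE' := (img _ hy' hyv').1
      have hx' : er * φ ((r : G)⁻¹ * y₀ * r) * er⁻¹ = x₀ := by
        rw [← herconj _ (D.le hE'), map_mul, map_mul, map_inv, hx₀]; group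
      rw [← hx']
      exact hh.symm.map (MulAut.conj er)
    by_contra hne'
    have hcc : Commute (er * c * er⁻¹) c :=
      habel x₀ _ _ hx₀E hc' hc₀ hx₀o hx₀1 hcx' hcx.symm
    have h2' : orderOf (er * c * er⁻¹) = 2 := by
      rw [show er * c * er⁻¹ = MulAut.conj er c from rfl, MulEquiv.orderOf_eq]; exact ord2 hc2 hc1
    have := D.facts.klein ⟨x₀, hx₀E⟩ ⟨er * c * er⁻¹, hc'⟩ ⟨c, hc₀⟩ (by rwa [← Subgroup.orderOf_coe])
      (by rwa [← Subgroup.orderOf_coe]) (by rw [← Subgroup.orderOf_coe]; exact ord2 hc2 hc1)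
      (fun h => hne' (show Commute er c by
        have h' : er * c * er⁻¹ = c := congrArg Subtype.val h
        exact mul_inv_eq_iff_eq_mul.1 h'))
      (Subtype.ext hcc) (Subtype.ext hcx'.symm.eq) (Subtype.ext hcx.eq)
    exact hx₀1 (congrArg Subtype.val this)
  have hrtc : Commute er et := by
    have h1 : Commute (φ r) (φ t) := hrt.map φ
    have h2 : Commute (φ r) et := by
      rcases hetc with h | h <;> rw [h] at h1
      · exact h1
      · have := (hφt _ hrv').mul_right h1
        rwa [← mul_assoc, htt, one_mul] at this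
    rcases herc with h | h <;> rw [h] at h2
    · exact h2
    · have := (D.comm et hetE).symm.mul_left h2
      rwa [← mul_assoc, htt, one_mul] at this
  have hreu : Commute er eu := by
    rcases hceu with h | h <;> rw [h]
    · exact herc'
    · exact hrtc.mul_right herc'
  have hfin := commute_of_proj hreu (D.comm _ herE) (D.comm _ heuE) herc heuc
  refine hru' ?_
  have := hfin.map φ.symm
  simpa using this

end Cfsg.Agent.PSLEight2
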