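import Mathlib
import Cfsg.Prelude.Def_Involutions
import Cfsg.Prelude.Def_EvenType
import Cfsg.Prelude.Def_Transfer
import Cfsg.Agent.S0144
import Cfsg.Agent.S0215
import Cfsg.Agent.S3189
import Cfsg.Agent.Bender43.Cores
import Cfsg.Agent.Lib.LinearGroup.Card
import Cfsg.Agent.PSLEight2.Core

/-!
In a simple group with abelian Sylow 2-subgroups a centraliser `⟨t⟩ × E`, `E` of type `PSL₂(q)`,
is a maximal subgroup, given that strongly embedded subgroups are soluble.
-/

set_option autoImplicit false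

namespace Cfsg.Agent.PSLEight2

open Subgroup InvChar68.Eight

variable {G : Type*} [Group G] [Finite G] {t : G} {E E₀ : Subgroup G}

/-- A subgroup between `E₀` and the normaliser of a four-group moves some element of it. -/
theorem exists_mover {F : Type*} [Field F] [Fintype F]
    (e₀ : E₀ ≃* Matrix.ProjectiveSpecialLinearGroup (Fin 2) F) (D : Setting t E E₀)
    (hq : Fintype.card F % 8 = 3 ∨ Fintype.card F % 8 = 5) {V : Subgroup G} (hVE : V ≤ E₀)
    (hV4 : Nat.card V = 4) (hVsq : ∀ v ∈ V, v * v = 1)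
    (hVmax : ∀ Q : Subgroup G, Q ≤ E₀ → IsPGroup 2 ↥Q → V ≤ Q → Q = V) :
    ∃ n ∈ E₀, (∀ v ∈ V, n * v * n⁻¹ ∈ V) ∧ ∃ v ∈ V, ¬ Commute n v := by
  classical
  haveI : Fact (Nat.Prime 2) := ⟨Nat.prime_two⟩
  by_contra hno
  push Not at hno
  let P : Sylow 2 ↥E₀ :=
    { toSubgroup := V.subgroupOf E₀
      isPGroup' := (IsPGroup.of_card (n := 2) (by simpa using hV4)).of_equiv (subgroupOfEquivOfLe hVE).symm
      is_maximal' := by
        intro Q hQ hle
        have h := hVmax (Q.map E₀.subtype) (map_subtype_le _) (hQ.map _)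
          (by rw [← map_subgroupOf_eq_of_le hVE]; exact map_mono hle)
        rw [← h]
        exact (comap_map_eq_self_of_injective E₀.subtype_injective Q).symm }
  have hPco : (P : Subgroup ↥E₀) = V.subgroupOf E₀ := rfl
  have hP : normalizer ((P : Subgroup ↥E₀) : Set ↥E₀) ≤ centralizer ((P : Subgroup ↥E₀) : Set ↥E₀) := by
    intro n hn
    refine mem_centralizer_iff.2 fun v hv => Subtype.ext ?_
    have hc := hno (n : G) n.2 (fun w hw => by
      have := (mem_normalizer_iff.1 hn ⟨w, hVE hw⟩).1 (mem_subgroupOf.2 hw)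
      simpa [hPco, mem_subgroupOf] using this) (v : G) (mem_subgroupOf.1 hv)
    exact hc.symm.eq
  have hcompl := MonoidHom.ker_transferSylow_isComplement' P hP
  set K := (MonoidHom.transferSylow P hP).ker with hKdef
  have hcard := hcompl.card_mul
  rw [hPco, Nat.card_congr (subgroupOfEquivOfLe hVE).toEquiv, hV4] at hcard
  have hord := LinearGroup.gcd_mul_card_PSL_two (F := F)
  rw [← Nat.card_congr e₀.toEquiv, ← hcard, Nat.card_eq_fintype_card (α := F)] at hord
  have hodd : Nat.gcd 2 (Fintype.card F - 1) = 2 := Nat.gcd_eq_left (by omega)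
  rw [hodd] at hord
  by_cases h5 : 4 ≤ Fintype.card F
  · haveI : IsSimpleGroup (Matrix.ProjectiveSpecialLinearGroup (Fin 2) F) :=
      Matrix.ProjectiveSpecialLinearGroup.rank_two_simple (by rw [Nat.card_eq_fintype_card]; exact h5)
    haveI : IsSimpleGroup ↥E₀ := e₀.isSimpleGroup
    rcases (MonoidHom.normal_ker (MonoidHom.transferSylow P hP)).eq_bot_or_eq_top with h | h
    · rw [hKdef, h, card_bot] at hord
      have : 4 * 15 ≤ Fintype.card F * (Fintype.card F ^ 2 - 1) :=
        Nat.mul_le_mul h5 (Nat.le_sub_of_add_le (Nat.pow_le_pow_left h5 2))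
      omega
    · rw [hKdef, h, card_top] at hcard
      have := Nat.card_pos (α := ↥E₀)
      omega
  · have h3 : Fintype.card F = 3 := by omega
    rw [h3] at hord
    have hK3 : Nat.card ↥K = 3 := by omega
    haveI : Fact (Nat.Prime 3) := ⟨Nat.prime_three⟩
    haveI : K.Normal := MonoidHom.normal_ker _
    obtain ⟨xk, hxk1⟩ : ∃ x : ↥K, x ≠ 1 := by
      haveI : Nontrivial ↥K := Finite.one_lt_card_iff_nontrivial.1 (by omega)
      exact exists_ne 1
    set x : ↥E₀ := (xk : ↥E₀) with hxd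
    have hx1 : x ≠ 1 := fun h => hxk1 (Subtype.ext h)
    have hxo : orderOf x = 3 := by
      rw [hxd, Subgroup.orderOf_coe]
      exact (Nat.dvd_prime Nat.prime_three).1 (hK3 ▸ orderOf_dvd_natCard xk) |>.resolve_left
        (fun h => hxk1 (orderOf_eq_one_iff.1 h))
    have hKmem : ∀ y ∈ K, y = 1 ∨ y = x ∨ y = x⁻¹ := by
      intro y hy
      have hzp : zpowers x = K := eq_of_le_of_card_ge (zpowers_le.2 xk.2) (by rw [Nat.card_zpowers, hxo, hK3])
      rw [← hzp] at hy
      obtain ⟨k, rfl⟩ := hy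
      show x ^ k = 1 ∨ x ^ k = x ∨ x ^ k = x⁻¹
      rw [← zpow_mod_orderOf, hxo]
      have h' : k % (3 : ℕ) = 0 ∨ k % (3 : ℕ) = 1 ∨ k % (3 : ℕ) = 2 := by omega
      rcases h' with h | h | h <;> rw [h]
      · left; exact zpow_zero x
      · right; left; exact zpow_one x
      · right; right
        refine eq_inv_of_mul_eq_one_left ?_
        rw [show (2 : ℤ) = ((2 : ℕ) : ℤ) from rfl, zpow_natCast, ← pow_succ]
        exact orderOf_dvd_iff_pow_eq_one.1 hxo.dvd
    have hflip : ∀ v ∈ (P : Subgroup ↥E₀), Commute v x ∨ v * x * v⁻¹ = x⁻¹ := by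
      intro v _
      rcases hKmem _ (Subgroup.Normal.conj_mem inferInstance x xk.2 v) with h | h | h
      · exact absurd (conj_eq_one_iff.1 h) hx1
      · exact Or.inl (mul_inv_eq_iff_eq_mul.1 h)
      · exact Or.inr h
    have hPsq : ∀ v ∈ (P : Subgroup ↥E₀), v * v = 1 := fun v hv =>
      Subtype.ext (hVsq _ (mem_subgroupOf.1 hv))
    have hord2 : ∀ v ∈ (P : Subgroup ↥E₀), v ≠ 1 → orderOf v = 2 := fun v hv h1 =>
      orderOf_eq_prime (by rw [pow_two, hPsq v hv]) h1
    have hPcomm : ∀ a ∈ (P : Subgroup ↥E₀), ∀ b ∈ (P : Subgroup ↥E₀), Commute a b := fun a ha b hb =>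
      (mem_centralizer_iff.1 (hP (le_normalizer ha)) b hb).symm
    have hP4 : Nat.card ↥(P : Subgroup ↥E₀) = 4 := by
      rw [hPco, Nat.card_congr (subgroupOfEquivOfLe hVE).toEquiv, hV4]
    have hother : ∀ v ∈ (P : Subgroup ↥E₀), ∃ u ∈ (P : Subgroup ↥E₀), u ≠ 1 ∧ u ≠ v := by
      intro v hv
      by_contra hc
      push Not at hc
      have hsub : ((P : Subgroup ↥E₀) : Set ↥E₀) ⊆ {1, v} := fun u hu => by
        by_cases h : u = 1
        · exact Or.inl h
        · exact Or.inr (hc u hu h)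
      have h2 := (Set.ncard_le_ncard hsub).trans (Set.ncard_insert_le _ _)
      rw [Set.ncard_singleton, ← Nat.card_coe_set_eq] at h2
      have h4 : Nat.card ↥((P : Subgroup ↥E₀) : Set ↥E₀) = 4 := hP4
      omega
    have hxodd : Odd (orderOf x) := hxo ▸ by decide
    obtain ⟨c, hc, hc1, hcx⟩ : ∃ c ∈ (P : Subgroup ↥E₀), c ≠ 1 ∧ Commute c x := by
      obtain ⟨a, ha, ha1, -⟩ := hother 1 (one_mem _)
      obtain ⟨b, hb, hb1, hba⟩ := hother a ha
      rcases hflip a ha with h | h
      · exact ⟨a, ha, ha1, h⟩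
      rcases hflip b hb with h' | h'
      · exact ⟨b, hb, hb1, h'⟩
      refine ⟨a * b, mul_mem ha hb, fun hab => hba ?_, ?_⟩
      · rw [mul_eq_one_iff_eq_inv] at hab
        rw [hab, inv_eq_of_mul_eq_one_right (hPsq b hb)]
      · refine mul_inv_eq_iff_eq_mul.1 ?_
        rw [show a * b * x * (a * b)⁻¹ = a * (b * x * b⁻¹) * a⁻¹ by group, h',
          show a * x⁻¹ * a⁻¹ = (a * x * a⁻¹)⁻¹ by group, h, inv_inv]
    have step : ∀ v ∈ (P : Subgroup ↥E₀), ∀ u ∈ (P : Subgroup ↥E₀), v ≠ 1 → u ≠ 1 → u ≠ v →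
        Commute x v ∧ ¬ Commute x u := by
      intro v hv u hu hv1 hu1 huv
      obtain ⟨r, hrv, hru⟩ := D.facts.torus x c v u hxodd hx1 (hord2 c hc hc1) hcx.symm (hord2 v hv hv1)
        (hord2 u hu hu1) huv (hPcomm u hu v hv)
      obtain ⟨⟨⟨k, hk⟩, ⟨p, hp⟩⟩, rfl⟩ := hcompl.2 r
      change Commute (k * p) v at hrv
      change ¬ Commute (k * p) u at hru
      have hkv : Commute k v := by
        have h := hrv.mul_left ((hPcomm p hp v hv).inv_left)
        rwa [mul_inv_cancel_right] at h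
      have hku : ¬ Commute k u := fun h => hru (h.mul_left (hPcomm p hp u hu))
      rcases hKmem k hk with rfl | rfl | rfl
      · exact absurd (Commute.one_left u) hku
      · exact ⟨hkv, hku⟩
      · exact ⟨Commute.inv_left_iff.1 hkv, fun h => hku h.inv_left⟩
    obtain ⟨u, hu, hu1, huc⟩ := hother c hc
    exact (step c hc u hu hc1 hu1 huc).2 ((step u hu c hc hu1 hc1 huc.symm).1)

/-- Maximality of the centraliser, given that strongly embedded subgroups are soluble. -/
theorem isCoatom_centralizer [IsSimpleGroup G] (hna : ¬ IsMulCommutative G)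
    (hsol : ∀ H : Subgroup G, Cfsg.IsStronglyEmbedded H → Cfsg.PRankAtLeast 2 2 G →
      Group.IsSolvable ↥H)
    (S₀ : Sylow 2 G) (hS₀ : IsMulCommutative (S₀ : Subgroup G)) (ht : orderOf t = 2)
    (hprod : Cfsg.IsInternalDirectProduct (zpowers t) E (centralizer ({t} : Set G))) (hle : E₀ ≤ E)
    (hn : (E₀.subgroupOf E).Normal) {F : Type} [Field F] [Fintype F] (hodd : Odd (Fintype.card F))
    (e₀ : E₀ ≃* Matrix.ProjectiveSpecialLinearGroup (Fin 2) F)
    (hCE : E ⊓ centralizer (E₀ : Set G) = ⊥) :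
    IsCoatom (centralizer ({t} : Set G)) := by
  classical
  haveI := Fintype.ofFinite G
  haveI : Fact (Nat.Prime 2) := ⟨Nat.prime_two⟩
  obtain ⟨D, hq, V, hVE, hV4, hVsq, hVmax⟩ :=
    exists_setting S₀ hS₀ t ht E E₀ hprod hle hn hodd e₀ hCE
  have htt := t_mul_self ht
  have ht1 : t ≠ 1 := fun h => by rw [h, orderOf_one] at ht; omega
  have hVt : ∀ v ∈ V, Commute v t := fun v hv => D.comm v (hle (hVE hv))
  have hab := fun {Q : Subgroup G} (hQ : IsPGroup 2 ↥Q) => two_subgroups_comm S₀ hS₀ hQ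
  -- a Sylow subgroup `⟨t⟩ × V`
  have hV2 : IsPGroup 2 ↥V := IsPGroup.of_card (n := 2) (by simpa using hV4)
  have hTp : IsPGroup 2 ↥(zpowers t ⊔ V) := by
    have hz : IsPGroup 2 ↥(zpowers t) := IsPGroup.of_card (n := 1) (by rw [Nat.card_zpowers, ht, pow_one])
    refine hz.to_sup_of_normal_right' hV2 (zpowers_le.2 ?_)
    refine mem_normalizer_iff.2 fun z => ⟨fun hz' => ?_, fun hz' => ?_⟩
    · rwa [(hVt z hz').symm.eq, mul_inv_cancel_right]
    · have := (hVt _ hz').symm
      have hh : t * (t * z * t⁻¹) * t⁻¹ = t * z * t⁻¹ := by rw [this.eq, mul_inv_cancel_right]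
      have : t * z * t⁻¹ = z := mul_left_cancel (mul_right_cancel hh)
      rwa [this] at hz'
  obtain ⟨S, hST⟩ := hTp.exists_le_sylow
  have htS : t ∈ (S : Subgroup G) := hST (mem_sup_left (mem_zpowers t))
  have hVS : V ≤ (S : Subgroup G) := le_sup_right.trans hST
  have hScomm : ∀ a ∈ (S : Subgroup G), ∀ b ∈ (S : Subgroup G), a * b = b * a := fun a ha b hb =>
    (hab S.isPGroup' a ha b hb).eq
  have hSV : ∀ s ∈ (S : Subgroup G), s ∈ V ∨ t * s ∈ V := by
    intro s hs
    have hQ : (S : Subgroup G) ⊓ E₀ = V := hVmax _ inf_le_right (S.isPGroup'.to_le inf_le_left)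
      (le_inf hVS hVE)
    have h2el : ∀ e ∈ (S : Subgroup G), e ∈ E → e ∈ V := by
      intro e he heE
      obtain ⟨k, hk⟩ := S.isPGroup' ⟨e, he⟩
      exact hQ ▸ ⟨he, D.inner e heE k (congrArg Subtype.val hk)⟩
    rcases D.cases s (hScomm s hs t htS) with h | h
    · exact Or.inl (h2el s hs h)
    · exact Or.inr (h2el _ (mul_mem htS hs) h)
  have hsq : ∀ s ∈ (S : Subgroup G), s * s = 1 := by
    intro s hs
    rcases hSV s hs with h | h
    · exact hVsq s h
    · have h' := hVsq _ h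
      rwa [show t * s * (t * s) = t * (s * t) * s by group, hScomm s hs t htS,
        show t * (t * s) * s = (t * t) * (s * s) by group, htt, one_mul] at h'
  have hS8 : Nat.card ↥(S : Subgroup G) = 8 := by
    let f : Bool × ↥V → ↥(S : Subgroup G) := fun p =>
      ⟨(if p.1 then t else 1) * p.2, mul_mem (by split <;> simp [htS]) (hVS p.2.2)⟩
    have hf : Function.Bijective f := by
      constructor
      · rintro ⟨a, v, hv⟩ ⟨b, w, hw⟩ h
        have h' : (if a then t else 1) * v = (if b then t else 1) * w := congrArg Subtype.val h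
        have htV : ∀ {v w : G}, v ∈ V → w ∈ V → t * v ≠ w := fun {v w} hv hw he =>
          D.t_notMem (hle (hVE ((eq_mul_inv_of_mul_eq he).symm ▸ mul_mem hw (inv_mem hv))))
        cases a <;> cases b <;> simp at h'
        · subst h'; rfl
        · exact absurd h'.symm (htV hw hv)
        · exact absurd h' (htV hv hw)
        · subst h'; rfl
      · rintro ⟨s, hs⟩
        rcases hSV s hs with h | h
        · exact ⟨(false, ⟨s, h⟩), Subtype.ext (by simp [f])⟩
        · exact ⟨(true, ⟨t * s, h⟩), Subtype.ext (by simp [f, ← mul_assoc, htt])⟩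
    rw [← Nat.card_congr (Equiv.ofBijective f hf), Nat.card_prod, hV4]
    simp
  have hsq' : ∀ a : ↥(S : Subgroup G), a * a = 1 := fun a => Subtype.ext (hsq a a.2)
  obtain ⟨htrans, hAcard⟩ := automizer_card hS8 hsq' (aut (S : Subgroup G)) (aut_odd S hScomm)
    (no_fixed_point hna S hScomm)
  have hconjS : ∀ s ∈ (S : Subgroup G), ∀ u ∈ (S : Subgroup G), s ≠ 1 → u ≠ 1 →
      ∃ n ∈ normalizer ((S : Subgroup G) : Set G), n * s * n⁻¹ = u := by
    intro s hs u hu hs1 hu1
    obtain ⟨a, ⟨n, rfl⟩, ha⟩ := htrans ⟨s, hs⟩ ⟨u, hu⟩ (fun h => hs1 (congrArg Subtype.val h))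
      (fun h => hu1 (congrArg Subtype.val h))
    exact ⟨n, n.2, congrArg Subtype.val ha⟩
  have hinvol : ∀ u : G, orderOf u = 2 → ∃ g : G, g * t * g⁻¹ = u := by
    intro u hu
    obtain ⟨T, hT⟩ := (IsPGroup.of_card (G := ↥(zpowers u)) (p := 2) (n := 1)
      (by rw [Nat.card_zpowers, hu, pow_one])).exists_le_sylow
    obtain ⟨g, hg⟩ := MulAction.exists_smul_eq G T S
    have hmem : g * u * g⁻¹ ∈ (S : Subgroup G) := by
      rw [← hg]
      exact ⟨u, hT (mem_zpowers u), rfl⟩
    obtain ⟨n, -, hn'⟩ := hconjS t htS _ hmem ht1 (fun h => by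
      rw [conj_eq_one_iff.1 h, orderOf_one] at hu; omega)
    refine ⟨g⁻¹ * n, ?_⟩
    rw [show g⁻¹ * n * t * (g⁻¹ * n)⁻¹ = g⁻¹ * (n * t * n⁻¹) * g by group, hn']
    group
  -- an element of `N(S) ∩ C(t)` acting non-trivially
  obtain ⟨n₀, hn₀E, hn₀V, w, hwV, hn₀w⟩ := exists_mover e₀ D hq hVE hV4 hVsq hVmax
  have hn₀t : Commute n₀ t := D.comm _ (hle hn₀E)
  have hn₀S : n₀ ∈ normalizer ((S : Subgroup G) : Set G) := by
    have hsub : (S : Subgroup G).map (MulAut.conj n₀).toMonoidHom ≤ (S : Subgroup G) := by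
      rintro _ ⟨s, hs, rfl⟩
      show n₀ * s * n₀⁻¹ ∈ (S : Subgroup G)
      rcases hSV s hs with h | h
      · exact hVS (hn₀V _ h)
      · have h' := mul_mem htS (hVS (hn₀V _ h))
        rwa [show t * (n₀ * (t * s) * n₀⁻¹) = t * (n₀ * t) * s * n₀⁻¹ by group, hn₀t.eq,
          ← mul_assoc t t, htt, one_mul] at h'
    have heq := eq_of_le_of_card_ge hsub (le_of_eq (card_map_of_injective (MulAut.conj n₀).injective).symm)
    refine mem_normalizer_iff.2 fun z => ⟨fun hz => hsub ⟨z, hz, rfl⟩, fun hz => ?_⟩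
    have hz' : n₀ * z * n₀⁻¹ ∈ (S : Subgroup G).map (MulAut.conj n₀).toMonoidHom := heq.symm ▸ hz
    obtain ⟨s, hs, hse⟩ := hz'
    exact (MulAut.conj n₀).injective hse ▸ hs
  let a₀ : ↥(aut (S : Subgroup G)) := ⟨_, ⟨⟨n₀, hn₀S⟩, rfl⟩⟩
  let tS : ↥(S : Subgroup G) := ⟨t, htS⟩
  have ha₀ : a₀ ∈ MulAction.stabilizer (aut (S : Subgroup G)) tS := Subtype.ext (by
    show n₀ * t * n₀⁻¹ = t
    rw [hn₀t.eq, mul_inv_cancel_right])
  have ha₀1 : a₀ ≠ 1 := fun h => hn₀w (by
    have := congrArg (fun a : ↥(aut (S : Subgroup G)) => ((a.1 ⟨w, hVS hwV⟩ : ↥(S : Subgroup G)) : G)) h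
    exact mul_inv_eq_iff_eq_mul.1 this)
  have hA21 : Nat.card (aut (S : Subgroup G)) = 21 ∧
      Nat.card (MulAction.stabilizer (aut (S : Subgroup G)) tS) = 3 := by
    refine (hAcard tS (fun h => ht1 (congrArg Subtype.val h))).resolve_left fun h => ha₀1 ?_
    haveI : Subsingleton ↥(MulAction.stabilizer (aut (S : Subgroup G)) tS) :=
      (Nat.card_eq_one_iff_unique.1 h.2).1
    exact congrArg Subtype.val (Subsingleton.elim (⟨a₀, ha₀⟩ : ↥(MulAction.stabilizer _ tS)) 1)
  set C := centralizer ({t} : Set G) with hCdef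
  have memC : ∀ {g : G}, g ∈ C ↔ Commute g t := fun {g} => mem_centralizer_singleton_iff
  have hEC : E ≤ C := hprod.2.1
  -- the field has more than three elements
  have h5 : 4 ≤ Fintype.card F := by
    by_contra h4
    have h3 : Fintype.card F = 3 := by omega
    have hsolE₀ : Group.IsSolvable ↥E₀ := by
      refine S0144.result 2 3 2 1 Nat.prime_two Nat.prime_three ?_
      have hord := LinearGroup.gcd_mul_card_PSL_two (F := F)
      rw [← Nat.card_congr e₀.toEquiv, Nat.card_eq_fintype_card (α := F), h3] at hord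
      rw [show Nat.gcd 2 (3 - 1) = 2 from rfl] at hord
      omega
    have hsolC : Group.IsSolvable ↥C := by
      haveI := hn
      haveI : Group.IsSolvable ↥(E₀.subgroupOf E) :=
        Group.isSolvable_of_isSolvable_injective (f := (subgroupOfEquivOfLe hle).toMonoidHom)
          (subgroupOfEquivOfLe hle).injective
      haveI : Group.IsSolvable (↥E ⧸ E₀.subgroupOf E) := by
        refine Bender43.solvable_of_odd ?_
        rw [← Nat.not_even_iff_odd, even_iff_two_dvd]
        intro h2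
        obtain ⟨q, hq2⟩ := exists_prime_orderOf_dvd_card' 2 h2
        obtain ⟨x, rfl⟩ := QuotientGroup.mk_surjective q
        obtain ⟨k, m, hm, hkm⟩ : ∃ k m, Odd m ∧ orderOf x = 2 ^ k * m :=
          Nat.exists_eq_two_pow_mul_odd (orderOf_pos x).ne'
        have hxm : ((x ^ m : ↥E) : G) ^ 2 ^ k = 1 := by
          rw [← Subgroup.coe_pow, ← pow_mul, mul_comm, ← hkm, pow_orderOf_eq_one]; rfl
        have hmem : (QuotientGroup.mk (x ^ m) : ↥E ⧸ E₀.subgroupOf E) = 1 :=
          (QuotientGroup.eq_one_iff _).2 (mem_subgroupOf.2 (D.inner _ (x ^ m).2 k hxm))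
        rw [QuotientGroup.mk_pow] at hmem
        have hdvd := orderOf_dvd_of_pow_eq_one hmem
        rw [hq2] at hdvd
        exact hm.not_two_dvd_nat hdvd
      haveI : Group.IsSolvable ↥E := Group.isSolvable_of_ker_le_range (E₀.subgroupOf E).subtype
        (QuotientGroup.mk' (E₀.subgroupOf E)) (by rw [QuotientGroup.ker_mk', range_subtype])
      haveI hEn : (E.subgroupOf C).Normal := ⟨fun x hx g => by
        rw [mem_subgroupOf] at hx ⊢
        obtain ⟨e, heE, -, hconj⟩ := D.exists_proj (memC.1 g.2)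
        show (g : G) * x * (g : G)⁻¹ ∈ E
        rw [hconj _ hx]
        exact mul_mem (mul_mem heE hx) (inv_mem heE)⟩
      haveI : Group.IsSolvable (↥C ⧸ E.subgroupOf C) := by
        have h2g : IsPGroup 2 (↥C ⧸ E.subgroupOf C) := fun q => by
          obtain ⟨g, rfl⟩ := QuotientGroup.mk_surjective q
          refine ⟨1, ?_⟩
          rw [pow_one, ← QuotientGroup.mk_pow, QuotientGroup.eq_one_iff, mem_subgroupOf,
            Subgroup.coe_pow, pow_two]
          rcases D.cases _ (memC.1 g.2) with h | h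
          · exact mul_mem h h
          · have e : t * (g : G) * (t * g) = (g : G) * g := by
              rw [show t * (g : G) * (t * g) = t * ((g : G) * t) * g by group, (memC.1 g.2).eq,
                show t * (t * (g : G)) * g = (t * t) * ((g : G) * g) by group, htt, one_mul]
            exact e ▸ mul_mem h h
        haveI := h2g.isNilpotent
        infer_instance
      haveI : Group.IsSolvable ↥(E.subgroupOf C) :=
        Group.isSolvable_of_isSolvable_injective (f := (subgroupOfEquivOfLe hEC).toMonoidHom)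
          (subgroupOfEquivOfLe hEC).injective
      exact Group.isSolvable_of_ker_le_range (E.subgroupOf C).subtype (QuotientGroup.mk' (E.subgroupOf C))
        (by rw [QuotientGroup.ker_mk', range_subtype])
    have hall : ∀ u : G, orderOf u = 2 → Group.IsSolvable ↥(centralizer ({u} : Set G)) := by
      intro u hu
      obtain ⟨g, rfl⟩ := hinvol u hu
      haveI := hsolC
      let f : ↥(centralizer ({g * t * g⁻¹} : Set G)) →* ↥C :=
        { toFun := fun x => ⟨g⁻¹ * x * g, memC.2 (by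
            have h := (mem_centralizer_singleton_iff.1 x.2 : (x : G) * _ = _)
            show g⁻¹ * (x : G) * g * t = t * (g⁻¹ * x * g)
            calc g⁻¹ * (x : G) * g * t = g⁻¹ * ((x : G) * (g * t * g⁻¹)) * g := by group
              _ = g⁻¹ * (g * t * g⁻¹ * x) * g := by rw [h]
              _ = t * (g⁻¹ * x * g) := by group)⟩
          map_one' := Subtype.ext (by simp)
          map_mul' := fun x y => Subtype.ext (by simp [mul_assoc]) }
      exact Group.isSolvable_of_isSolvable_injective (f := f) fun x y h => Subtype.ext (by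
        simpa [f] using congrArg Subtype.val h)
    have h7 := S3189.result hna S ⟨⟨⟨fun a b => Subtype.ext (hScomm a a.2 b b.2)⟩⟩,
      fun a ha => by rw [pow_two]; exact hsq a ha⟩ hS8 hall
    rw [← card_aut, hA21.1] at h7
    omega
  haveI : IsSimpleGroup (Matrix.ProjectiveSpecialLinearGroup (Fin 2) F) :=
    Matrix.ProjectiveSpecialLinearGroup.rank_two_simple (by rw [Nat.card_eq_fintype_card]; exact h5)
  haveI hE₀s : IsSimpleGroup ↥E₀ := e₀.isSimpleGroup
  have hE₀nc : ¬ ∀ a b : ↥E₀, a * b = b * a := fun h =>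
    hn₀w (congrArg Subtype.val (h ⟨n₀, hn₀E⟩ ⟨w, hVE hwV⟩))
  constructor
  · intro htop
    have hzn : (zpowers t).Normal := ⟨fun x hx g => by
      obtain ⟨k, rfl⟩ := hx
      have hg : Commute g t := memC.1 (htop ▸ mem_top g)
      rw [(hg.zpow_right k).eq, mul_inv_cancel_right]
      exact ⟨k, rfl⟩⟩
    rcases hzn.eq_bot_or_eq_top with h | h
    · exact ht1 (zpowers_eq_bot.1 h)
    · refine hna ⟨⟨fun a b => ?_⟩⟩
      obtain ⟨i, rfl⟩ := (h ▸ mem_top a : a ∈ zpowers t)
      obtain ⟨j, rfl⟩ := (h ▸ mem_top b : b ∈ zpowers t)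
      exact ((Commute.refl t).zpow_zpow i j).eq
  intro M hCM
  by_contra hM
  have hSC : (S : Subgroup G) ≤ C := fun s hs => memC.2 (hScomm s hs t htS)
  have hSM : (S : Subgroup G) ≤ M := hSC.trans hCM.le
  by_cases hfused : ∃ m ∈ M, m * t * m⁻¹ ∈ (S : Subgroup G) ∧ m * t * m⁻¹ ≠ t
  · -- `M` would be strongly embedded
    obtain ⟨m, hmM, hmS, hmt⟩ := hfused
    let SM : Sylow 2 ↥M := S.subtype hSM
    haveI : IsMulCommutative ↥(SM : Subgroup ↥M) :=
      ⟨⟨fun a b => Subtype.ext (Subtype.ext (hScomm _ (mem_subgroupOf.1 a.2) _ (mem_subgroupOf.1 b.2)))⟩⟩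
    obtain ⟨n, hnN, hne⟩ := SM.conj_eq_normalizer_conj_of_mem (⟨t, hSM htS⟩ : ↥M) ⟨m, hmM⟩⁻¹
      (mem_subgroupOf.2 htS) (by
        rw [inv_inv]; exact mem_subgroupOf.2 hmS)
    have hnG : (n : G) ∈ normalizer ((S : Subgroup G) : Set G) := by
      have hsub : ∀ s ∈ (S : Subgroup G), (n : G) * s * (n : G)⁻¹ ∈ (S : Subgroup G) := fun s hs =>
        mem_subgroupOf.1 ((mem_normalizer_iff.1 hnN ⟨s, hSM hs⟩).1 (mem_subgroupOf.2 hs))
      refine mem_normalizer_iff.2 fun z => ⟨hsub z, fun hz => ?_⟩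
      have hzM : z ∈ M := by
        have := mul_mem (mul_mem (inv_mem n.2) (hSM hz)) n.2
        simpa [mul_assoc] using this
      exact mem_subgroupOf.1 ((mem_normalizer_iff.1 hnN ⟨z, hzM⟩).2 (mem_subgroupOf.2 hz))
    have hne' : (n : G)⁻¹ * t * n = m * t * m⁻¹ := by
      have := congrArg Subtype.val hne
      simpa using this.symm
    let AM : Subgroup ↥(aut (S : Subgroup G)) :=
      ((M.subgroupOf (normalizer ((S : Subgroup G) : Set G))).map
        (S : Subgroup G).normalizerMonoidHom).subgroupOf (aut (S : Subgroup G))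
    have hmemAM : ∀ (k : G) (hk : k ∈ normalizer ((S : Subgroup G) : Set G)), k ∈ M →
        (⟨_, ⟨⟨k, hk⟩, rfl⟩⟩ : ↥(aut (S : Subgroup G))) ∈ AM := fun k hk hkM =>
      mem_subgroupOf.2 ⟨⟨k, hk⟩, mem_subgroupOf.2 hkM, rfl⟩
    have hstab : MulAction.stabilizer (aut (S : Subgroup G)) tS < AM := by
      refine lt_of_le_of_ne ?_ fun he => ?_
      · rintro ⟨_, ⟨k, rfl⟩⟩ hk
        have hkt : (k : G) * t * (k : G)⁻¹ = t :=
          congrArg (fun z : ↥(S : Subgroup G) => (z : G)) hk
        exact hmemAM _ k.2 (hCM.le (memC.2 (mul_inv_eq_iff_eq_mul.1 hkt)))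
      · have hmem := hmemAM _ (inv_mem hnG) (inv_mem n.2)
        rw [← he] at hmem
        have := congrArg (fun z : ↥(S : Subgroup G) => (z : G)) hmem
        change (n : G)⁻¹ * t * (n : G)⁻¹⁻¹ = t at this
        rw [inv_inv, hne'] at this
        exact hmt this
    have hAMtop : AM = ⊤ := by
      have h1 : Nat.card ↥AM ∣ 21 := hA21.1 ▸ AM.card_subgroup_dvd_card
      have h2 : 3 ∣ Nat.card ↥AM := hA21.2 ▸ card_dvd_of_le hstab.le
      have h3 : Nat.card ↥AM ≠ 3 := fun h => hstab.ne (eq_of_le_of_card_ge hstab.le (by rw [h, hA21.2]))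
      refine card_eq_iff_eq_top AM |>.1 (hA21.1.symm ▸ ?_)
      have h21 : Nat.card ↥AM ∈ Nat.divisors 21 := Nat.mem_divisors.2 ⟨h1, by norm_num⟩
      have hdiv : Nat.divisors 21 = {1, 3, 7, 21} := by decide
      rw [hdiv] at h21
      simp only [Finset.mem_insert, Finset.mem_singleton] at h21
      omega
    have hNM : normalizer ((S : Subgroup G) : Set G) ≤ M := by
      intro k hk
      have h : (⟨_, ⟨⟨k, hk⟩, rfl⟩⟩ : ↥(aut (S : Subgroup G))) ∈ AM := hAMtop ▸ mem_top _
      obtain ⟨k', hk', he⟩ := mem_subgroupOf.1 h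
      have hker : (k'⁻¹ * ⟨k, hk⟩ : ↥(normalizer ((S : Subgroup G) : Set G))) ∈
          (S : Subgroup G).normalizerMonoidHom.ker := by
        rw [MonoidHom.mem_ker, map_mul, map_inv, he]
        exact inv_mul_cancel _
      rw [normalizerMonoidHom_ker, mem_subgroupOf] at hker
      have hC' : (k' : G)⁻¹ * k ∈ C :=
        memC.2 (mem_centralizer_iff.1 hker t htS).symm
      have := mul_mem (mem_subgroupOf.1 hk') (hCM.le hC')
      rwa [mul_inv_cancel_left] at this
    have hMinv : ∀ u ∈ M, orderOf u = 2 → ∃ k ∈ M, k * t * k⁻¹ = u := by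
      intro u huM hu
      obtain ⟨T, hT⟩ := (IsPGroup.of_card (G := ↥(zpowers (⟨u, huM⟩ : ↥M))) (p := 2) (n := 1)
        (by rw [Nat.card_zpowers, ← Subgroup.orderOf_coe]; simpa using hu)).exists_le_sylow
      obtain ⟨g, hg⟩ := MulAction.exists_smul_eq ↥M T SM
      have hmem : (g : G) * u * (g : G)⁻¹ ∈ (S : Subgroup G) := by
        have h : g * ⟨u, huM⟩ * g⁻¹ ∈ (SM : Subgroup ↥M) := by
          rw [← hg]
          exact ⟨_, hT (mem_zpowers _), rfl⟩
        exact mem_subgroupOf.1 h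
      obtain ⟨k, hk, hke⟩ := hconjS t htS _ hmem ht1 (fun h => by
        rw [conj_eq_one_iff.1 h, orderOf_one] at hu; omega)
      refine ⟨(g : G)⁻¹ * k, mul_mem (inv_mem g.2) (hNM hk), ?_⟩
      rw [show (g : G)⁻¹ * k * t * ((g : G)⁻¹ * k)⁻¹ = (g : G)⁻¹ * (k * t * k⁻¹) * g by group, hke]
      group
    have hSE : Cfsg.IsStronglyEmbedded M := by
      refine ⟨hM, ?_, fun g hg => ?_⟩
      · exact even_iff_two_dvd.2 (ht ▸ M.orderOf_dvd_natCard (hSM htS))
      · rw [← Nat.not_even_iff_odd, even_iff_two_dvd]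
        intro h
        obtain ⟨⟨u, huM, hug⟩, hu⟩ := exists_prime_orderOf_dvd_card' 2 h
        rw [← Subgroup.orderOf_coe] at hu
        obtain ⟨y, hy, hye⟩ := hug
        change g * y * g⁻¹ = u at hye
        have hyo : orderOf y = 2 := by
          rw [← MulEquiv.orderOf_eq (MulAut.conj g) y, MulAut.conj_apply]
          exact (congrArg orderOf hye).trans hu
        obtain ⟨k, hk, hke⟩ := hMinv u huM hu
        obtain ⟨l, hl, hle'⟩ := hMinv y hy hyo
        apply hg
        have hc : Commute (k⁻¹ * g * l) t := by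
          refine mul_inv_eq_iff_eq_mul.1 ?_
          rw [show k⁻¹ * g * l * t * (k⁻¹ * g * l)⁻¹ = k⁻¹ * (g * (l * t * l⁻¹) * g⁻¹) * k by group,
            hle', hye, ← hke]
          group
        have := mul_mem (mul_mem hk (hCM.le (memC.2 hc))) (inv_mem hl)
        rwa [show k * (k⁻¹ * g * l) * l⁻¹ = g by group] at this
    have hrank : Cfsg.PRankAtLeast 2 2 G :=
      ⟨V, ⟨⟨fun a b => Subtype.ext (hScomm a (hVS a.2) b (hVS b.2))⟩⟩,
        fun a ha => by rw [pow_two]; exact hVsq a ha, by rw [hV4]; norm_num⟩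
    haveI := hsol M hSE hrank
    haveI : Group.IsSolvable ↥E₀ := Group.isSolvable_of_isSolvable_injective
      (f := Subgroup.inclusion ((hle.trans hEC).trans hCM.le)) (inclusion_injective _)
    exact hE₀nc (IsSimpleGroup.comm_iff_isSolvable.2 inferInstance)
  · -- `t` is central modulo an odd normal subgroup of `M`
    push Not at hfused
    obtain ⟨N, hNn, hNodd, hNc⟩ := S0215.result (S.subtype hSM) (⟨t, hSM htS⟩ : ↥M)
      (by rw [← Subgroup.orderOf_coe]; exact ht) (mem_subgroupOf.2 htS)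
      (fun g hg => Subtype.ext (hfused g g.2 (mem_subgroupOf.1 hg)))
    let N' : Subgroup G := N.map M.subtype
    have hN'odd : Odd (Nat.card N') := by
      rw [card_map_of_injective M.subtype_injective]; exact hNodd
    have hnormM : ∀ g ∈ M, ∀ y ∈ N', g * y * g⁻¹ ∈ N' := by
      rintro g hg _ ⟨y, hy, rfl⟩
      exact ⟨_, hNn.conj_mem y hy ⟨g, hg⟩, rfl⟩
    have hnorm : ∀ g : G, Commute g t → ∀ y ∈ N', g * y * g⁻¹ ∈ N' := fun g hg =>
      hnormM g (hCM.le (memC.2 hg))
    have hfix : ∀ y ∈ N', Commute y t → y = 1 := by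
      intro y hy hyt
      have hyo : ∀ {z : G}, z ∈ N' → Odd (orderOf z) := fun hz =>
        hN'odd.of_dvd_nat (N'.orderOf_dvd_natCard hz)
      have hyE := D.odd_mem hyt (hyo hy)
      by_contra hy1
      have hD : ((E₀ ⊓ N').subgroupOf E₀).Normal := ⟨fun z hz g => by
        rw [mem_subgroupOf] at hz ⊢
        exact ⟨E₀.mul_mem (E₀.mul_mem g.2 z.2) (E₀.inv_mem g.2),
          hnorm _ (D.comm _ (hle g.2)) _ hz.2⟩⟩
      have hDbot : E₀ ⊓ N' = ⊥ := by
        rcases hD.eq_bot_or_eq_top with h | h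
        · rw [subgroupOf_eq_bot, disjoint_iff, inf_comm] at h
          simpa [← inf_assoc] using h
        · exfalso
          have hE₀N : E₀ ≤ N' := (subgroupOf_eq_top.1 h).trans inf_le_right
          have := card_dvd_of_le (hVE.trans hE₀N)
          rw [hV4] at this
          exact hN'odd.not_two_dvd_nat (dvd_trans (by norm_num) this)
      refine hy1 (D.faithful y hyE fun z hz => ?_)
      have h1 : y * z * y⁻¹ * z⁻¹ ∈ E₀ ⊓ N' := by
        refine ⟨E₀.mul_mem (D.conj_mem y hyE z hz) (E₀.inv_mem hz), ?_⟩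
        have := mul_mem hy (hnorm z (D.comm _ (hle hz)) _ (inv_mem hy))
        rwa [show y * (z * y⁻¹ * z⁻¹) = y * z * y⁻¹ * z⁻¹ by group] at this
      rw [hDbot, mem_bot, mul_inv_eq_one, mul_inv_eq_iff_eq_mul] at h1
      exact h1
    -- `t` inverts `N'`
    have hinv : ∀ y ∈ N', t * y * t⁻¹ = y⁻¹ := by
      let φ : ↥N' →* ↥N' :=
        { toFun := fun y => ⟨t * y * t⁻¹, hnorm t (Commute.refl t) y y.2⟩
          map_one' := Subtype.ext (by simp)
          map_mul' := fun a b => Subtype.ext (by simp [mul_assoc]) }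
      have hφ : MonoidHom.FixedPointFree φ := fun y hy => Subtype.ext (hfix y y.2
        (mul_inv_eq_iff_eq_mul.1 (congrArg Subtype.val hy : t * (y : G) * t⁻¹ = y)).symm)
      have hφ2 : Function.Involutive φ := fun y => Subtype.ext (by
        show t * (t * (y : G) * t⁻¹) * t⁻¹ = y
        rw [inv_eq_of_mul_eq_one_right htt]
        simp [mul_assoc, htt, ← mul_assoc t t])
      intro y hy
      exact congrArg Subtype.val (congrFun (hφ.coe_eq_inv_of_involutive hφ2) ⟨y, hy⟩)
    have hC1 : ∀ v ∈ V, v ≠ 1 → ∀ y ∈ N', Commute y v → y = 1 := by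
      intro v hv hv1 y hy hyv
      obtain ⟨u, hu, hu1, huv⟩ : ∃ u ∈ V, u ≠ 1 ∧ u ≠ v := by
        by_contra hc
        push Not at hc
        have hsub : (V : Set G) ⊆ {1, v} := fun u hu => by
          by_cases h : u = 1
          · exact Or.inl h
          · exact Or.inr (hc u hu h)
        have h2 := (Set.ncard_le_ncard hsub).trans (Set.ncard_insert_le _ _)
        rw [Set.ncard_singleton, ← Nat.card_coe_set_eq] at h2
        have h4 : Nat.card ↥(V : Set G) = 4 := hV4
        omega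
      obtain ⟨n, -, hne⟩ := hconjS v (hVS hv) t htS hv1 ht1
      exact D.cent_inverted (hVE hv) (hVE hu) (hVsq v hv) (hVsq u hu) hv1 hu1 huv
        (hScomm u (hVS hu) v (hVS hv)) hne hN'odd hnorm hinv hy hyv
    have hN1 : ∀ y ∈ N', y = 1 := by
      have hinvV : ∀ v ∈ V, v ≠ 1 → ∀ y ∈ N', v * y * v⁻¹ = y⁻¹ := by
        intro v hv hv1
        have hvt := hVt v hv
        let φ : ↥N' →* ↥N' :=
          { toFun := fun y => ⟨v * y * v⁻¹, hnorm v hvt y y.2⟩
            map_one' := Subtype.ext (by simp)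
            map_mul' := fun a b => Subtype.ext (by simp [mul_assoc]) }
        have hφ : MonoidHom.FixedPointFree φ := fun y hy => Subtype.ext (hC1 v hv hv1 y y.2
          (mul_inv_eq_iff_eq_mul.1 (congrArg Subtype.val hy : v * (y : G) * v⁻¹ = y)).symm)
        have hφ2 : Function.Involutive φ := fun y => Subtype.ext (by
          show v * (v * (y : G) * v⁻¹) * v⁻¹ = y
          rw [inv_eq_of_mul_eq_one_right (hVsq v hv)]
          simp [mul_assoc, hVsq v hv, ← mul_assoc v v])
        intro y hy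
        exact congrArg Subtype.val (congrFun (hφ.coe_eq_inv_of_involutive hφ2) ⟨y, hy⟩)
      intro y hy
      obtain ⟨a, ha⟩ : ∃ a : ↥V, a ≠ 1 := by
        haveI : Nontrivial ↥V := Finite.one_lt_card_iff_nontrivial.1 (by omega)
        exact exists_ne 1
      have ha1 : (a : G) ≠ 1 := fun h => ha (Subtype.ext h)
      obtain ⟨b, hb, hb1, hba⟩ : ∃ b ∈ V, b ≠ 1 ∧ b ≠ (a : G) := by
        by_contra hc
        push Not at hc
        have hsub : (V : Set G) ⊆ {1, (a : G)} := fun u hu => by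
          by_cases h : u = 1
          · exact Or.inl h
          · exact Or.inr (hc u hu h)
        have h2 := (Set.ncard_le_ncard hsub).trans (Set.ncard_insert_le _ _)
        rw [Set.ncard_singleton, ← Nat.card_coe_set_eq] at h2
        have h4 : Nat.card ↥(V : Set G) = 4 := hV4
        omega
      have hab1 : (a : G) * b ≠ 1 := fun h => hba (by
        rw [mul_eq_one_iff_eq_inv, inv_eq_of_mul_eq_one_right (hVsq b hb)] at h
        exact h.symm)
      refine hC1 _ (mul_mem a.2 hb) hab1 y hy (mul_inv_eq_iff_eq_mul.1 ?_).symm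
      rw [show (a : G) * b * y * ((a : G) * b)⁻¹ = (a : G) * (b * y * b⁻¹) * (a : G)⁻¹ by group,
        hinvV b hb hb1 y hy, hinvV a a.2 ha1 _ (inv_mem hy), inv_inv]
    refine hCM.not_ge fun g hg => memC.2 ?_
    have h := hNc ⟨g, hg⟩
    have h1 : t * g * t⁻¹ * g⁻¹ = 1 := hN1 _ ⟨_, h, rfl⟩
    rw [mul_inv_eq_one, mul_inv_eq_iff_eq_mul] at h1
    exact h1.symm

end Cfsg.Agent.PSLEight2
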