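import Cfsg.Agent.BenderCons37.Discharge
import Cfsg.Agent.PSLEight2.Main

/-!
The form of S1245 from `BenderSplit`.
-/

set_option autoImplicit false

namespace Cfsg.Agent.PSLEight2

universe u

theorem s1245_of (hsp : BenderCons37.BenderSplit.{u}) {G : Type u} [Group G] [Finite G] [IsSimpleGroup G]
    (hna : ¬ IsMulCommutative G) (S : Sylow 2 G) (hS : IsMulCommutative (S : Subgroup G)) (t : G)
    (ht : orderOf t = 2) (E E₀ : Subgroup G)
    (hprod : Cfsg.IsInternalDirectProduct (Subgroup.zpowers t) E (Subgroup.centralizer ({t} : Set G)))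
    (hE₀E : E₀ ≤ E) (hE₀n : (E₀.subgroupOf E).Normal)
    (hE₀ : ∃ (F : Type) (_ : Field F) (_ : Fintype F), Odd (Fintype.card F) ∧
      Nonempty (E₀ ≃* Matrix.ProjectiveSpecialLinearGroup (Fin 2) F))
    (hCE : E ⊓ Subgroup.centralizer (E₀ : Set G) = ⊥) :
    IsCoatom (Subgroup.centralizer ({t} : Set G)) := by
  obtain ⟨F, hF, hFt, hodd, ⟨e₀⟩⟩ := hE₀
  exact isCoatom_centralizer hna
    (fun H hH h => BenderCons37.isSolvable_of_rankTwo hsp BenderCons37.twoGroupStmt hH
      (BenderCons37.rankTwo_of_pRankAtLeast h))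
    S hS ht hprod hE₀E hE₀n hodd e₀ hCE

end Cfsg.Agent.PSLEight2
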